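import Groth.Agent.L27.Acyclic0.ShConn
import Groth.Agent.L21.Smooth.Scheme

/-! # Smooth morphisms have connected geometric fibres on strictly local schemes -/

universe u

open CategoryTheory CategoryTheory.Limits AlgebraicGeometry

set_option autoImplicit false
set_option linter.style.haveILetI false

namespace Groth.L27.Acyclic0

/-- Base changes of smooth morphisms to fields are reduced. -/
theorem isReduced_pullback_of_smooth {X Y : Scheme.{u}} (g : X ⟶ Y) [Smooth g]
    (K : Type u) [Field K] (k : Spec (CommRingCat.of K) ⟶ Y) : AlgebraicGeometry.IsReduced (pullback g k) := by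
  haveI : Smooth (pullback.snd g k) :=
    MorphismProperty.of_isPullback (P := @Smooth) (IsPullback.of_hasPullback g k) ‹Smooth g›
  haveI : ∀ x : ↥(pullback g k), _root_.IsReduced ((pullback g k).presheaf.stalk x) := fun x => by
    haveI := Groth.L21.Smooth.isDomain_stalk (pullback.snd g k) x
    infer_instance
  exact isReduced_of_isReduced_stalk _

/-- Smooth morphisms have connected geometric fibres on strictly local schemes. -/
theorem shConnected_of_smooth {X Y : Scheme.{u}} (g : X ⟶ Y) [Smooth g] :
    Groth.L27.BigSets.ShConnected g :=
  shConnected_of_flat_geomReduced g (isReduced_pullback_of_smooth g) (Or.inr inferInstance)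

end Groth.L27.Acyclic0
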