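import Groth.Agent.L27.Acyclic0.StrictFibres
import Groth.Agent.L27.IndEtale
import Mathlib.RingTheory.Smooth.NoetherianDescent
import Mathlib.LinearAlgebra.TensorProduct.Vanishing
import Mathlib.RingTheory.TensorProduct.DirectLimitFG
import Mathlib.RingTheory.IsTensorProduct

/-! # Connectedness of geometric fibres from a Noetherian model -/

universe u

open IsLocalRing TensorProduct

set_option autoImplicit false
set_option linter.style.haveILetI false
set_option maxSynthPendingDepth 3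
set_option maxHeartbeats 1000000
set_option synthInstance.maxHeartbeats 400000

namespace Groth.L27.Acyclic0

section Stage

variable {A C T K : Type u} [CommRing A] [CommRing C] [CommRing T] [Field K]
  [Algebra A C] [Algebra C T] [Algebra A T] [IsScalarTower A C T] [Algebra A K]

/-- The map on fibres induced by a map from a stage. -/
noncomputable def stageMap (A K : Type u) [CommRing A] [Field K] [Algebra A K] [Algebra A C] {E : Type u} [CommRing E] [Algebra C E] [Algebra A E] [IsScalarTower A C E]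
    {T' : Type u} [CommRing T'] [Algebra C T'] [Algebra A T'] [IsScalarTower A C T']
    (β : E →ₐ[C] T') : E ⊗[A] K →ₐ[A] T' ⊗[A] K :=
  Algebra.TensorProduct.map (β.restrictScalars A) (AlgHom.id A K)

theorem stageMap_tmul {E : Type u} [CommRing E] [Algebra C E] [Algebra A E] [IsScalarTower A C E]
    {T' : Type u} [CommRing T'] [Algebra C T'] [Algebra A T'] [IsScalarTower A C T']
    (β : E →ₐ[C] T') (x : E) (k : K) : stageMap A K β (x ⊗ₜ k) = β x ⊗ₜ k :=
  Algebra.TensorProduct.map_tmul _ _ x k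

/-- Vanishing in the fibre happens at a finitely presented stage. -/
theorem exists_fp_vanish (E : Type u) [CommRing E] [Algebra C E] [Algebra A E] [IsScalarTower A C E]
    (β : E →ₐ[C] T) (z : E ⊗[A] K) (hz : stageMap A K β z = 0) :
    ∃ (P : Type u) (_ : CommRing P) (_ : Algebra E P) (_ : Algebra.FinitePresentation E P) (φ : P →+* T),
      φ.comp (algebraMap E P) = β.toRingHom ∧
      ∀ (E' : Type u) [CommRing E'] [Algebra C E'] [Algebra A E'] [IsScalarTower A C E']
        (α : E →ₐ[C] E') (α' : P →+* E'), α'.comp (algebraMap E P) = α.toRingHom → stageMap A K α z = 0 := by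
  classical
  obtain ⟨S, rfl⟩ := TensorProduct.exists_finset z
  simp only [map_sum, stageMap_tmul] at hz ⊢
  let Q₀ : Submodule A T := Submodule.span A (Set.range fun p : S => β p.1.1)
  have hQ₀ : Q₀.FG := Submodule.fg_span (Set.finite_range _)
  let t : Q₀ ⊗[A] K := ∑ p : S, (⟨β p.1.1, Submodule.subset_span ⟨p, rfl⟩⟩ : Q₀) ⊗ₜ p.1.2
  have ht : LinearMap.rTensor K Q₀.subtype t = 0 := by
    simp only [t, map_sum, LinearMap.rTensor_tmul, Submodule.subtype_apply]
    rw [Finset.sum_coe_sort S (fun p => β p.1 ⊗ₜ[A] p.2)]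
    exact hz
  obtain ⟨Q, hle, hQ, hQt⟩ := TensorProduct.eq_zero_of_fg_of_subtype_eq_zero hQ₀ ht
  obtain ⟨m, y, hy⟩ := Submodule.fg_iff_exists_fin_generating_family.1 hQ
  let y' : Fin m → Q := fun j => ⟨y j, hy ▸ Submodule.subset_span ⟨j, rfl⟩⟩
  have hy' : Submodule.span A (Set.range y') = ⊤ := by
    apply Submodule.map_injective_of_injective Q.injective_subtype
    rw [Submodule.map_span, ← Set.range_comp, Submodule.map_top, Submodule.range_subtype]
    exact hy
  have hc : ∀ p : S, ∃ c : Fin m → A, ∑ j, c j • y' j = ⟨β p.1.1, hle (Submodule.subset_span ⟨p, rfl⟩)⟩ :=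
    fun p => (Submodule.mem_span_range_iff_exists_fun A).1 (hy' ▸ Submodule.mem_top)
  choose c hc using hc
  let n : Fin m → K := fun j => ∑ p : S, c p j • p.1.2
  have hsum : ∑ j, y' j ⊗ₜ[A] n j = 0 := by
    rw [← hQt]
    simp only [t, map_sum, LinearMap.rTensor_tmul, n, TensorProduct.tmul_sum]
    rw [Finset.sum_comm]
    refine Finset.sum_congr rfl fun p _ => ?_
    simp only [TensorProduct.tmul_smul, TensorProduct.smul_tmul', ← TensorProduct.sum_tmul, hc p]
    rfl
  obtain ⟨k, a, u, hu, ha⟩ := TensorProduct.vanishesTrivially_of_sum_tmul_eq_zero A hy' hsum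
  let rel : S ⊕ Fin k → MvPolynomial (Fin m) E := Sum.elim
    (fun p => MvPolynomial.C p.1.1 - ∑ j, c p j • MvPolynomial.X j) (fun l => ∑ j, a j l • MvPolynomial.X j)
  let I := Ideal.span (Set.range rel)
  let ev : MvPolynomial (Fin m) E →+* T := MvPolynomial.eval₂Hom β.toRingHom y
  have hsm : ∀ (r : A) (j : Fin m), ev (r • MvPolynomial.X j) = r • y j := fun r j => by
    rw [Algebra.smul_def, map_mul, IsScalarTower.algebraMap_apply A E (MvPolynomial (Fin m) E),
      MvPolynomial.algebraMap_eq, Algebra.smul_def]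
    simp only [ev, MvPolynomial.coe_eval₂Hom, MvPolynomial.eval₂_C, MvPolynomial.eval₂_X]
    exact congrArg (· * y j) ((β.restrictScalars A).commutes r)
  have hI : ∀ x ∈ I, ev x = 0 := fun x hx => by
    refine (Ideal.span_le (I := RingHom.ker ev)).2 ?_ hx
    rintro _ ⟨w, rfl⟩
    rcases w with p | l
    · show ev (rel (Sum.inl p)) = 0
      have := congrArg Subtype.val (hc p)
      simp only [Submodule.coe_sum, Submodule.coe_smul, y'] at this
      simp only [rel, Sum.elim_inl, map_sub, map_sum, hsm, this]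
      simp [ev]
    · show ev (rel (Sum.inr l)) = 0
      have := congrArg Subtype.val (ha l)
      simp only [Submodule.coe_sum, Submodule.coe_smul, y', Submodule.coe_zero] at this
      simp only [rel, Sum.elim_inr, map_sum, hsm, this]
  refine ⟨MvPolynomial (Fin m) E ⧸ I, inferInstance, inferInstance,
    Algebra.FinitePresentation.quotient (Submodule.fg_span (Set.finite_range rel)),
    Ideal.Quotient.lift I ev hI, RingHom.ext fun x => ?_, fun E' _ _ _ _ α α' hα => ?_⟩
  · show ev (algebraMap E (MvPolynomial (Fin m) E) x) = β x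
    simp [ev, MvPolynomial.algebraMap_eq]
  let Y : Fin m → E' := fun j => α' (Ideal.Quotient.mk I (MvPolynomial.X j))
  have hsm' : ∀ (r : A) (j : Fin m), α' (Ideal.Quotient.mk I (r • MvPolynomial.X j)) = r • Y j := fun r j => by
    rw [Algebra.smul_def, map_mul, map_mul, Algebra.smul_def]
    congr 1
    show α' (algebraMap E (MvPolynomial (Fin m) E ⧸ I) (algebraMap A E r)) = _
    rw [← RingHom.comp_apply, hα]
    exact (α.restrictScalars A).commutes r
  have hrel : ∀ s, α' (Ideal.Quotient.mk I (rel s)) = 0 := fun s => by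
    rw [Ideal.Quotient.eq_zero_iff_mem.2 (Ideal.subset_span (Set.mem_range_self s)), map_zero]
  have h1 : ∀ p : S, α p.1.1 = ∑ j, c p j • Y j := fun p => by
    have := hrel (Sum.inl p)
    simp only [rel, Sum.elim_inl, map_sub, map_sum, hsm', sub_eq_zero] at this
    rw [← this]
    exact (DFunLike.congr_fun hα p.1.1).symm
  have h2 : ∀ l, ∑ j, a j l • Y j = 0 := fun l => by
    have := hrel (Sum.inr l)
    simpa only [rel, Sum.elim_inr, map_sum, hsm'] using this
  rw [← Finset.sum_coe_sort S (fun p => α p.1 ⊗ₜ[A] p.2)]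
  simp only [h1, TensorProduct.sum_tmul, ← TensorProduct.smul_tmul', ← TensorProduct.tmul_smul]
  rw [Finset.sum_comm]
  simp only [← TensorProduct.tmul_sum]
  rw [Finset.sum_congr rfl (fun j _ => congrArg (Y j ⊗ₜ[A] ·) (hu j))]
  simp only [TensorProduct.tmul_sum, TensorProduct.tmul_smul, TensorProduct.smul_tmul']
  rw [Finset.sum_comm]
  simp only [← TensorProduct.sum_tmul, h2, TensorProduct.zero_tmul, Finset.sum_const_zero]

/-- Idempotents of the fibre of an ind-etale algebra come from idempotents at etale stages. -/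
theorem exists_etale_idem (h : EtPBC.IsIndEtale C T) {e : T ⊗[A] K} (he : IsIdempotentElem e) :
    ∃ (E : Type u) (_ : CommRing E) (_ : Algebra C E) (_ : Algebra.Etale C E) (_ : Algebra A E)
      (_ : IsScalarTower A C E) (β : E →ₐ[C] T) (e' : E ⊗[A] K),
      IsIdempotentElem e' ∧ stageMap A K β e' = e := by
  classical
  obtain ⟨S, rfl⟩ := TensorProduct.exists_finset e
  obtain ⟨E, _, _, α, β, hE, hαβ⟩ := (Groth.L27.IndEtale.isIndEtale_iff_exists_factor C T).1 h
    (MvPolynomial S C) (MvPolynomial.aeval fun p : S => p.1.1)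
  letI : Algebra A E := ((algebraMap C E).comp (algebraMap A C)).toAlgebra
  haveI : IsScalarTower A C E := IsScalarTower.of_algebraMap_eq' rfl
  let e₁ : E ⊗[A] K := ∑ p : S, α (MvPolynomial.X p) ⊗ₜ p.1.2
  have he₁ : stageMap A K β e₁ = ∑ p ∈ S, p.1 ⊗ₜ[A] p.2 := by
    simp only [e₁, map_sum, stageMap_tmul]
    rw [← Finset.sum_coe_sort S (fun p => p.1 ⊗ₜ[A] p.2)]
    refine Finset.sum_congr rfl fun p _ => ?_
    rw [← AlgHom.comp_apply, hαβ, MvPolynomial.aeval_X]
  obtain ⟨P, _, _, _, φ, hφ, hP⟩ := exists_fp_vanish E β (e₁ * e₁ - e₁) (by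
    rw [map_sub, map_mul, he₁, sub_eq_zero]
    exact he)
  haveI : Algebra.Etale C E := hE
  letI : Algebra C P := ((algebraMap E P).comp (algebraMap C E)).toAlgebra
  haveI : IsScalarTower C E P := IsScalarTower.of_algebraMap_eq' rfl
  haveI : Algebra.FinitePresentation C P := Algebra.FinitePresentation.trans C E P
  have hφc : ∀ c, φ (algebraMap C P c) = algebraMap C T c := fun c => by
    show φ (algebraMap E P (algebraMap C E c)) = _
    rw [← RingHom.comp_apply, hφ]
    exact β.commutes c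
  let φ' : P →ₐ[C] T := { φ with commutes' := hφc }
  obtain ⟨E', _, _, α', β', hE', hαβ'⟩ := (Groth.L27.IndEtale.isIndEtale_iff_exists_factor C T).1 h P φ'
  letI : Algebra A E' := ((algebraMap C E').comp (algebraMap A C)).toAlgebra
  haveI : IsScalarTower A C E' := IsScalarTower.of_algebraMap_eq' rfl
  let γ : E →ₐ[C] E' := α'.comp (IsScalarTower.toAlgHom C E P)
  refine ⟨E', inferInstance, inferInstance, hE', inferInstance, inferInstance, β', stageMap A K γ e₁, ?_, ?_⟩
  · have := hP E' γ α'.toRingHom rfl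
    rw [map_sub, map_mul, sub_eq_zero] at this
    exact this
  · rw [← he₁]
    refine DFunLike.congr_fun (f := (stageMap A K β').comp (stageMap A K γ)) (g := stageMap A K β)
      (Algebra.TensorProduct.ext' fun x k => ?_) e₁
    simp only [AlgHom.comp_apply, stageMap_tmul]
    congr 1
    show β' (α' (algebraMap E P x)) = β x
    rw [← AlgHom.comp_apply, hαβ']
    exact DFunLike.congr_fun hφ x

end Stage

/-- Fibres of a cocartesian square agree. -/
theorem bijective_fibre_of_isPushout (R A E₁ E K : Type u) [CommRing R] [CommRing A] [CommRing E₁]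
    [CommRing E] [Field K] [Algebra R A] [Algebra R E₁] [Algebra A E] [Algebra E₁ E] [Algebra R E]
    [IsScalarTower R E₁ E] [IsScalarTower R A E] [Algebra.IsPushout R A E₁ E]
    [Algebra A K] [Algebra R K] [IsScalarTower R A K]
    (ν : E₁ ⊗[R] K →+* E ⊗[A] K) (hν : ∀ (x : E₁) (k : K), ν (x ⊗ₜ k) = algebraMap E₁ E x ⊗ₜ k) :
    Function.Bijective ν := by
  letI : Algebra A (E₁ ⊗[R] K) :=
    (((Algebra.TensorProduct.includeRight : K →ₐ[R] E₁ ⊗[R] K).toRingHom).comp (algebraMap A K)).toAlgebra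
  haveI : IsScalarTower R A (E₁ ⊗[R] K) := IsScalarTower.of_algebraMap_eq fun r => by
    show _ = (1 : E₁) ⊗ₜ[R] algebraMap A K (algebraMap R A r)
    rw [← IsScalarTower.algebraMap_apply]
    exact ((Algebra.TensorProduct.includeRight : K →ₐ[R] E₁ ⊗[R] K).commutes r).symm
  let d : E →ₐ[R] E₁ ⊗[R] K := Algebra.pushoutDesc E (IsScalarTower.toAlgHom R A (E₁ ⊗[R] K))
    Algebra.TensorProduct.includeLeft (fun _ _ => Commute.all _ _)
  let dA : E →ₐ[A] E₁ ⊗[R] K := { d.toRingHom with commutes' := fun a => Algebra.pushoutDesc_left E _ _ _ a }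
  let kA : K →ₐ[A] E₁ ⊗[R] K :=
    { (Algebra.TensorProduct.includeRight : K →ₐ[R] E₁ ⊗[R] K).toRingHom with commutes' := fun _ => rfl }
  let r := Algebra.TensorProduct.lift dA kA (fun _ _ => Commute.all _ _)
  have hr : ∀ z, r (ν z) = z := fun z => by
    induction z using TensorProduct.induction_on with
    | zero => simp
    | add z w hz hw => rw [map_add, map_add, hz, hw]
    | tmul x k =>
      rw [hν, Algebra.TensorProduct.lift_tmul]
      show d (algebraMap E₁ E x) * ((1 : E₁) ⊗ₜ[R] k) = _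
      rw [show d (algebraMap E₁ E x) = x ⊗ₜ[R] (1 : K) from Algebra.pushoutDesc_right E _ _ _ x]
      simp
  refine ⟨fun z w h => by rw [← hr z, h, hr w], fun z => ?_⟩
  induction z using TensorProduct.induction_on with
  | zero => exact ⟨0, map_zero _⟩
  | add z w hz hw =>
    obtain ⟨a, rfl⟩ := hz; obtain ⟨b, rfl⟩ := hw
    exact ⟨a + b, map_add _ _ _⟩
  | tmul x k =>
    refine (Algebra.IsPushout.out : IsBaseChange A (IsScalarTower.toAlgHom R E₁ E).toLinearMap).inductionOn x
      (fun x => ∀ k : K, ∃ w, ν w = x ⊗ₜ k) (fun k => ⟨0, by rw [map_zero, TensorProduct.zero_tmul]⟩)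
      (fun x k => ⟨x ⊗ₜ k, hν x k⟩) (fun a x hx k => ?_) (fun x x' hx hx' k => ?_) k
    · obtain ⟨w, hw⟩ := hx (a • k)
      exact ⟨w, by rw [hw, TensorProduct.smul_tmul]⟩
    · obtain ⟨w, hw⟩ := hx k
      obtain ⟨w', hw'⟩ := hx' k
      exact ⟨w + w', by rw [map_add, hw, hw', TensorProduct.add_tmul]⟩

/-- Fibres of an algebra descended along a cocartesian square agree with those of the model. -/
theorem exists_bijective_fibre (R A C₁ C E₁ E K : Type u) [CommRing R] [CommRing A] [CommRing C₁]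
    [CommRing C] [CommRing E₁] [CommRing E] [Field K] [Algebra R A] [Algebra R C₁] [Algebra A C]
    [Algebra C₁ C] [Algebra R C] [IsScalarTower R C₁ C] [IsScalarTower R A C] [Algebra.IsPushout R A C₁ C]
    [Algebra C₁ E₁] [Algebra R E₁] [IsScalarTower R C₁ E₁]
    [Algebra C E] [Algebra A E] [IsScalarTower A C E]
    [Algebra A K] [Algebra R K] [IsScalarTower R A K] (σ : C ⊗[C₁] E₁ ≃ₐ[C] E) :
    ∃ ν : E₁ ⊗[R] K →+* E ⊗[A] K,
      Function.Bijective ν ∧ ∀ (x : E₁) (k : K), ν (x ⊗ₜ k) = σ (1 ⊗ₜ x) ⊗ₜ k := by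
  let g : E₁ →+* E := σ.toRingEquiv.toRingHom.comp
    (Algebra.TensorProduct.includeRight : E₁ →ₐ[C₁] C ⊗[C₁] E₁).toRingHom
  letI : Algebra E₁ E := g.toAlgebra
  letI : Algebra C₁ E := ((algebraMap C E).comp (algebraMap C₁ C)).toAlgebra
  haveI : IsScalarTower C₁ C E := IsScalarTower.of_algebraMap_eq' rfl
  letI : Algebra R E := ((algebraMap A E).comp (algebraMap R A)).toAlgebra
  haveI : IsScalarTower R A E := IsScalarTower.of_algebraMap_eq' rfl
  haveI : IsScalarTower R C E := IsScalarTower.of_algebraMap_eq fun x => by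
    show algebraMap A E (algebraMap R A x) = _
    rw [IsScalarTower.algebraMap_apply R A C, ← IsScalarTower.algebraMap_apply A C E]
  haveI : IsScalarTower R C₁ E := IsScalarTower.of_algebraMap_eq fun x => by
    show _ = algebraMap C E (algebraMap C₁ C (algebraMap R C₁ x))
    rw [← IsScalarTower.algebraMap_apply R C₁ C, ← IsScalarTower.algebraMap_apply]
  haveI : IsScalarTower C₁ E₁ E := IsScalarTower.of_algebraMap_eq fun x => by
    show algebraMap C E (algebraMap C₁ C x) = σ ((1 : C) ⊗ₜ algebraMap C₁ E₁ x)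
    rw [← σ.commutes]
    exact congrArg σ ((Algebra.TensorProduct.includeRight : E₁ →ₐ[C₁] C ⊗[C₁] E₁).commutes x).symm
  haveI : IsScalarTower R E₁ E := IsScalarTower.of_algebraMap_eq fun x => by
    rw [IsScalarTower.algebraMap_apply R C₁ E₁, ← IsScalarTower.algebraMap_apply C₁ E₁ E,
      ← IsScalarTower.algebraMap_apply]
  haveI : Algebra.IsPushout C₁ C E₁ E := by
    letI : Algebra E₁ (C ⊗[C₁] E₁) := Algebra.TensorProduct.rightAlgebra
    haveI : IsScalarTower C₁ E₁ (C ⊗[C₁] E₁) := IsScalarTower.of_algebraMap_eq fun x =>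
      ((Algebra.TensorProduct.includeRight : E₁ →ₐ[C₁] C ⊗[C₁] E₁).commutes x).symm
    haveI : Algebra.IsPushout C₁ C E₁ (C ⊗[C₁] E₁) := ⟨TensorProduct.isBaseChange C₁ E₁ C⟩
    exact Algebra.IsPushout.of_equiv σ rfl
  haveI : Algebra.IsPushout R A E₁ E :=
    haveI h1 : Algebra.IsPushout R C₁ A C := Algebra.IsPushout.symm ‹_›
    haveI h2 : Algebra.IsPushout C₁ E₁ C E := Algebra.IsPushout.symm ‹_›
    Algebra.IsPushout.symm ((Algebra.IsPushout.comp_iff R C₁ A C).2 h2)
  let ν : E₁ ⊗[R] K →+* E ⊗[A] K := (Algebra.TensorProduct.lift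
    ((Algebra.TensorProduct.includeLeft : E →ₐ[R] E ⊗[A] K).comp (IsScalarTower.toAlgHom R E₁ E))
    ((Algebra.TensorProduct.includeRight : K →ₐ[A] E ⊗[A] K).restrictScalars R)
    (fun _ _ => Commute.all _ _)).toRingHom
  have hν : ∀ (x : E₁) (k : K), ν (x ⊗ₜ k) = algebraMap E₁ E x ⊗ₜ k := fun x k => by simp [ν]
  exact ⟨ν, bijective_fibre_of_isPushout R A E₁ E K ν hν, hν⟩

/-- Reduced fibres are inherited by etale algebras. -/
theorem isReduced_fibre_etale (R C₁ E₁ κ : Type u) [CommRing R] [CommRing C₁] [CommRing E₁] [Field κ]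
    [Algebra R C₁] [Algebra C₁ E₁] [Algebra R E₁] [IsScalarTower R C₁ E₁] [Algebra R κ]
    [Algebra.Etale C₁ E₁] (h : _root_.IsReduced (C₁ ⊗[R] κ)) : _root_.IsReduced (E₁ ⊗[R] κ) := by
  let D := C₁ ⊗[R] κ
  haveI : _root_.IsReduced D := h
  haveI h' := Groth.L20.isReduced_of_weaklyEtale D (D ⊗[C₁] E₁)
  let f : E₁ ⊗[R] κ ≃+* D ⊗[C₁] E₁ :=
    ((Algebra.TensorProduct.comm C₁ D E₁).toRingEquiv.trans
      (Algebra.TensorProduct.cancelBaseChange R C₁ C₁ E₁ κ).toRingEquiv).symm
  exact @isReduced_of_injective _ (D ⊗[C₁] E₁) _ _ _ _ _ f f.injective h'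

/-- Reduced fibres are inherited by base change. -/
theorem isReduced_fibre_baseChange (A₀ A₁ C₀ κ : Type u) [CommRing A₀] [CommRing A₁] [CommRing C₀]
    [Field κ] [Algebra A₀ A₁] [Algebra A₀ C₀] [Algebra A₁ κ] [Algebra A₀ κ] [IsScalarTower A₀ A₁ κ]
    (h : _root_.IsReduced (C₀ ⊗[A₀] κ)) : _root_.IsReduced ((A₁ ⊗[A₀] C₀) ⊗[A₁] κ) := by
  let f : (A₁ ⊗[A₀] C₀) ⊗[A₁] κ ≃+* C₀ ⊗[A₀] κ :=
    ((Algebra.TensorProduct.comm A₁ (A₁ ⊗[A₀] C₀) κ).toRingEquiv.trans
      (Algebra.TensorProduct.cancelBaseChange A₀ A₁ A₁ κ C₀).toRingEquiv).trans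
      (Algebra.TensorProduct.comm A₀ κ C₀).toRingEquiv
  exact isReduced_of_injective f.toRingHom f.injective

/-- Base change of a Noetherian ring to a finitely generated subalgebra is Noetherian. -/
theorem isNoetherianRing_baseChange (A₀ A₁ C₀ : Type u) [CommRing A₀] [CommRing A₁] [CommRing C₀]
    [IsNoetherianRing C₀] [Algebra A₀ A₁] [Algebra A₀ C₀] [Algebra.FiniteType A₀ A₁] :
    IsNoetherianRing (A₁ ⊗[A₀] C₀) := by
  haveI : IsNoetherianRing (C₀ ⊗[A₀] A₁) := Algebra.FiniteType.isNoetherianRing C₀ _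
  exact isNoetherianRing_of_ringEquiv _ (Algebra.TensorProduct.comm A₀ C₀ A₁).toRingEquiv

section Main

variable (A T K : Type u) [CommRing A] [HenselianLocalRing A] [IsSepClosed (ResidueField A)]
  [CommRing T] [HenselianLocalRing T] [IsSepClosed (ResidueField T)] [Algebra A T]
  [IsLocalHom (algebraMap A T)] [Module.Flat A T] [Field K] [Algebra A K]
  (A₀ C₀ : Type u) [CommRing A₀] [IsNoetherianRing A₀] [CommRing C₀] [IsNoetherianRing C₀]
  [Algebra A₀ A] [Algebra A₀ C₀] [Module.Flat A₀ C₀]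
  [Algebra (A ⊗[A₀] C₀) T] [IsScalarTower A (A ⊗[A₀] C₀) T]

/-- Geometric fibres of strictly henselian rings ind-etale over the base change of a good Noetherian
model are connected. -/
theorem connectedSpace_of_model
    (hred : ∀ (κ : Type u) [Field κ] [Algebra A₀ κ], _root_.IsReduced (C₀ ⊗[A₀] κ))
    (h : EtPBC.IsIndEtale (A ⊗[A₀] C₀) T) : ConnectedSpace (PrimeSpectrum (T ⊗[A] K)) := by
  haveI : Module.FaithfullyFlat A T := Module.FaithfullyFlat.of_flat_of_isLocalHom
  haveI : Nontrivial (T ⊗[A] K) := Module.FaithfullyFlat.lTensor_nontrivial A T K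
  refine Groth.L18.SchFin.connectedSpace_of_idem fun e he => ?_
  obtain ⟨E, _, _, _, _, _, β, e', he', rfl⟩ := exists_etale_idem h he
  let C := A ⊗[A₀] C₀
  letI : Algebra C₀ C := Algebra.TensorProduct.rightAlgebra
  obtain ⟨C', E', _, _, hC', hE', ⟨σ⟩⟩ := Algebra.Etale.exists_subalgebra_fg (R := C₀) (A := C) (B := E)
  -- a finitely generated subalgebra of `A` covering `C'`
  obtain ⟨gens, hgens⟩ := hC'
  classical
  let terms : C → Finset (A × C₀) := fun x => (TensorProduct.exists_finset x).choose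
  let sA : Finset A := gens.biUnion fun x => (terms x).image Prod.fst
  let A₁ : Subalgebra A₀ A := Algebra.adjoin A₀ (sA : Set A)
  haveI : Algebra.FiniteType A₀ A₁ :=
    (Subalgebra.fg_iff_finiteType A₁).1 ⟨sA, rfl⟩
  haveI : IsNoetherianRing A₁ := Algebra.FiniteType.isNoetherianRing A₀ A₁
  let C₁ := A₁ ⊗[A₀] C₀
  let ι : C₁ →ₐ[A₀] C := Algebra.TensorProduct.map A₁.val (AlgHom.id A₀ C₀)
  have hι : Function.Injective ι :=
    Module.Flat.rTensor_preserves_injective_linearMap (M := C₀) A₁.val.toLinearMap Subtype.val_injective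
  have hr : ∀ x ∈ C', x ∈ ι.toRingHom.range := by
    intro x hx
    rw [← hgens] at hx
    refine Algebra.adjoin_induction (fun y hy => ?_) (fun c => ?_) (fun y z _ _ => add_mem) (fun y z _ _ => mul_mem) hx
    · rw [(TensorProduct.exists_finset y).choose_spec]
      refine sum_mem fun p hp => ⟨(⟨p.1, Algebra.subset_adjoin (Finset.mem_coe.2
        (Finset.mem_biUnion.2 ⟨y, hy, Finset.mem_image_of_mem _ hp⟩))⟩ : A₁) ⊗ₜ p.2, rfl⟩
    · exact ⟨(1 : A₁) ⊗ₜ c, rfl⟩
  let er : C₁ ≃+* ι.toRingHom.range := RingEquiv.ofBijective ι.toRingHom.rangeRestrict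
    ⟨fun a b hab => hι (congrArg Subtype.val hab), ι.toRingHom.rangeRestrict_surjective⟩
  let j : C' →+* C₁ := er.symm.toRingHom.comp
    (C'.val.toRingHom.codRestrict ι.toRingHom.range fun x => hr x x.2)
  have hj : ∀ x, ι (j x) = (x : C) := fun x => congrArg Subtype.val (er.apply_symm_apply _)
  letI : Algebra C' C₁ := j.toAlgebra
  letI : Algebra C₁ C := ι.toRingHom.toAlgebra
  haveI : IsScalarTower C' C₁ C := IsScalarTower.of_algebraMap_eq fun x => (hj x).symm
  haveI : IsScalarTower A₁ C₁ C := IsScalarTower.of_algebraMap_eq fun a => rfl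
  haveI : Algebra.IsPushout A₁ A C₁ C :=
    Algebra.IsPushout.tensorProduct_tensorProduct A₀ C₀ A₁ A (RingHom.ext fun c => rfl)
  haveI : IsNoetherianRing C₁ := isNoetherianRing_baseChange A₀ A₁ C₀
  let E₁ := C₁ ⊗[C'] E'
  haveI : IsNoetherianRing E₁ := Algebra.FiniteType.isNoetherianRing C₁ E₁
  obtain ⟨ν, hb, hν⟩ := exists_bijective_fibre A₁ A C₁ C E₁ E K
    ((Algebra.TensorProduct.cancelBaseChange C' C₁ C C E').trans σ.symm)
  haveI : Module.Flat A₁ E₁ := by
    haveI : Module.Flat C₁ E₁ := inferInstance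
    exact Module.Flat.trans A₁ C₁ E₁
  have hred₁ : ∀ (κ : Type u) [Field κ] [Algebra A₁ κ], _root_.IsReduced (E₁ ⊗[A₁] κ) := fun κ _ _ => by
    letI : Algebra A₀ κ := ((algebraMap A₁ κ).comp (algebraMap A₀ A₁)).toAlgebra
    haveI : IsScalarTower A₀ A₁ κ := IsScalarTower.of_algebraMap_eq' rfl
    exact isReduced_fibre_etale A₁ C₁ E₁ κ (isReduced_fibre_baseChange A₀ A₁ C₀ κ (hred κ))
  let σ₁ := (Algebra.TensorProduct.cancelBaseChange C' C₁ C C E').trans σ.symm
  letI : Algebra E₁ T := (β.toRingHom.comp (σ₁.toRingEquiv.toRingHom.comp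
    (Algebra.TensorProduct.includeRight : E₁ →ₐ[C₁] C ⊗[C₁] E₁).toRingHom)).toAlgebra
  haveI : IsScalarTower A₁ E₁ T := IsScalarTower.of_algebraMap_eq fun x => by
    show _ = β (σ₁ ((1 : C) ⊗ₜ algebraMap A₁ E₁ x))
    rw [IsScalarTower.algebraMap_apply A₁ C₁ E₁, ← Algebra.TensorProduct.includeRight_apply,
      AlgHom.commutes, IsScalarTower.algebraMap_apply C₁ C (C ⊗[C₁] E₁), σ₁.commutes, β.commutes,
      ← IsScalarTower.algebraMap_apply A₁ C₁ C, IsScalarTower.algebraMap_apply A₁ A C,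
      ← IsScalarTower.algebraMap_apply A C T, ← IsScalarTower.algebraMap_apply]
  obtain ⟨e₀, rfl⟩ := hb.2 e'
  refine idem_of_model A T K A₁ E₁ hred₁ ((stageMap A K β).toRingHom.comp ν) (fun x k => ?_) (hb.1 ?_)
  · show stageMap A K β (ν (x ⊗ₜ k)) = _
    rw [hν, stageMap_tmul]
    rfl
  · rw [map_mul]; exact he'

end Main

end Groth.L27.Acyclic0
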