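import Groth.Agent.L27.Acyclic0.ShConnBaseChange
import Groth.Agent.L27.EtSite.ConnFibres
import Groth.Prelude.Def_EtAcyc
import Groth.Prelude.Def_SGA1

/-! # Morphisms with connected geometric fibres are 0-acyclic -/

universe u

open CategoryTheory CategoryTheory.Limits AlgebraicGeometry Opposite IsLocalRing TensorProduct

set_option autoImplicit false
set_option backward.isDefEq.respectTransparency.types false
set_option linter.style.haveILetI false

noncomputable section

namespace Groth.L27.Acyclic0

open Groth.L27.BigSets (ShConnected)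

/-- The unit is an isomorphism for universally submersive morphisms with connected geometric fibres. -/
theorem isIso_unit_of_connected {X S : Scheme.{u}} (f : X ⟶ S) (hsub : SGA1.UnivSubmersive f)
    (hc : ∀ (Ω : Type u) [Field Ω] [IsAlgClosed Ω] (s : Spec (CommRingCat.of Ω) ⟶ S),
      ConnectedSpace ↥(pullback f s))
    (F : EtDesc.Sh S) : IsIso ((EtDesc.adjSh f).unit.app F) := by
  haveI : ∀ V, IsIso (((sheafToPresheaf _ _).map ((EtDesc.adjSh f).unit.app F)).app V) := fun ⟨V⟩ =>
    (ConcreteCategory.isIso_iff_bijective _).2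
      ⟨EtSite.CF.injective_eta f F hc V,
        EtSite.CF.surjective_eta f F hc (fun W => hsub _ _ _ (IsPullback.of_hasPullback W.hom f)) V⟩
  haveI : IsIso ((sheafToPresheaf _ _).map ((EtDesc.adjSh f).unit.app F)) := NatIso.isIso_of_isIso_app _
  exact isIso_of_reflects_iso _ (sheafToPresheaf _ _)

/-- Universally submersive morphisms with connected geometric fibres are 0-acyclic. -/
theorem isZeroAcyclic_of_connected {X S : Scheme.{u}} (f : X ⟶ S) (hsub : SGA1.UnivSubmersive f)
    (hc : ∀ (Ω : Type u) [Field Ω] [IsAlgClosed Ω] (s : Spec (CommRingCat.of Ω) ⟶ S),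
      ConnectedSpace ↥(pullback f s)) :
    EtAcyc.IsZeroAcyclic f := by
  intro V F
  refine isIso_unit_of_connected _ ?_ (fun Ω _ _ s => ?_) F
  · haveI : SGA1.UnivSubmersive.{u}.IsStableUnderBaseChange :=
      inferInstanceAs (MorphismProperty.universally _).IsStableUnderBaseChange
    exact MorphismProperty.of_isPullback (P := SGA1.UnivSubmersive)
      (IsPullback.of_hasPullback V.hom f).flip hsub
  · haveI := hc Ω (s ≫ V.hom)
    let i : pullback (pullback.fst V.hom f) s ≅ pullback f (s ≫ V.hom) :=
      pullbackSymmetry _ _ ≪≫ pullbackRightPullbackFstIso V.hom f s ≪≫ pullbackSymmetry _ _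
    exact i.inv.homeomorph.surjective.connectedSpace i.inv.continuous

/-- Flat morphisms induce flat maps of strictly local rings. -/
theorem flat_strict {X Y : Scheme.{u}} (g : X ⟶ Y) [Flat g] (x : X) (RY RX : Type u) [CommRing RY]
    [CommRing RX] [IsLocalRing RY] [IsLocalRing RX]
    [Algebra (Y.presheaf.stalk (g.base x)) RY] [IsLocalHom (algebraMap (Y.presheaf.stalk (g.base x)) RY)]
    [Hensel.IsStrictHenselization (Y.presheaf.stalk (g.base x)) RY]
    [Algebra (X.presheaf.stalk x) RX] [IsLocalHom (algebraMap (X.presheaf.stalk x) RX)]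
    [Hensel.IsStrictHenselization (X.presheaf.stalk x) RX] [Algebra RY RX]
    (hψ : (algebraMap RY RX).comp (algebraMap (Y.presheaf.stalk (g.base x)) RY) =
      (algebraMap (X.presheaf.stalk x) RX).comp (g.stalkMap x).hom) : Module.Flat RY RX := by
  let O := Y.presheaf.stalk (g.base x)
  let O' := X.presheaf.stalk x
  letI : Algebra O RX := ((algebraMap O' RX).comp (g.stalkMap x).hom).toAlgebra
  haveI : IsScalarTower O RY RX := IsScalarTower.of_algebraMap_eq' hψ.symm
  haveI : Algebra.WeaklyEtale O RY :=
    Groth.L27.IndEtale.weaklyEtale _ _ (L05.Henselization.isIndEtale_of_isStrictHenselization O RY)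
  letI : Algebra O O' := (g.stalkMap x).hom.toAlgebra
  haveI : IsScalarTower O O' RX := IsScalarTower.of_algebraMap_eq' rfl
  haveI : Module.Flat O O' := Flat.stalkMap g x
  haveI : Module.Flat O' RX := L05.Henselization.flat_of_isStrictHenselization O' RX
  haveI : Module.Flat O RX := Module.Flat.trans O O' RX
  exact Groth.L20.flat_of_flat_of_flat_lmul (R := O) (T := RY) (M := RX) (Algebra.WeaklyEtale.flat_lmul' O RY)

/-- Flat morphisms with connected geometric fibres on strictly local schemes are locally 0-acyclic. -/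
theorem isLocZeroAcyclic_of_shConnected {X Y : Scheme.{u}} (g : X ⟶ Y) [Flat g] (hg : ShConnected g) :
    EtAcyc.IsLocZeroAcyclic g := by
  intro x RY RX _ _ _ _ _ _ _ _ _ _ _ _ hψ
  haveI := flat_strict g x RY RX hψ
  haveI : Module.FaithfullyFlat RY RX := Module.FaithfullyFlat.of_flat_of_isLocalHom
  let f := Spec.map (CommRingCat.ofHom (algebraMap RY RX))
  haveI : Flat f := (HasRingHomProperty.Spec_iff (P := @Flat)).mpr (RingHom.flat_algebraMap_iff.mpr ‹_›)
  haveI : Surjective f := ⟨PrimeSpectrum.comap_surjective_of_faithfullyFlat⟩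
  refine isZeroAcyclic_of_connected f (L27.TopInv.univSubmersive_of_fpqc f) fun Ω _ _ η => ?_
  exact hg x RY RX (algebraMap RY RX) hψ Ω η

/-- Flat morphisms with separable fibres are universally locally 0-acyclic. -/
theorem isULocZeroAcyclic_of_flat_geomReduced {X Y : Scheme.{u}} (g : X ⟶ Y) [Flat g]
    (hsep : ∀ (K : Type u) [Field K] (k : Spec (CommRingCat.of K) ⟶ Y), AlgebraicGeometry.IsReduced (pullback g k))
    (h : (IsLocallyNoetherian X ∧ IsLocallyNoetherian Y) ∨ LocallyOfFinitePresentation g) :
    EtAcyc.IsULocZeroAcyclic g := by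
  intro X₁ Y₁ g₁ b' b hsq
  haveI : Flat g₁ := MorphismProperty.of_isPullback (P := @Flat) hsq ‹Flat g›
  refine isLocZeroAcyclic_of_shConnected g₁ ?_
  rcases h with ⟨hX, hY⟩ | hfp
  · exact shConnected_baseChange_of_noetherian g hsep g₁ b' b hsq
  · haveI : LocallyOfFinitePresentation g₁ :=
      MorphismProperty.of_isPullback (P := @LocallyOfFinitePresentation) hsq hfp
    refine shConnected_of_flat_geomReduced g₁ (fun K _ k => ?_) (Or.inr inferInstance)
    haveI := hsep K (k ≫ b)
    let i : pullback g₁ k ≅ pullback g (k ≫ b) :=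
      ((IsPullback.of_hasPullback g₁ k).paste_horiz hsq.flip.flip).isoPullback
    exact isReduced_of_isOpenImmersion i.hom

end Groth.L27.Acyclic0
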