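import Groth.Agent.L27.Acyclic0.Submersive
import Groth.Agent.L27.BigSets.FlatConn

/-! # Base change along universally locally 0-acyclic morphisms -/

universe u

open CategoryTheory CategoryTheory.Limits AlgebraicGeometry Opposite IsLocalRing

set_option autoImplicit false
set_option maxSynthPendingDepth 3
set_option backward.isDefEq.respectTransparency.types false
set_option linter.style.haveILetI false

noncomputable section

namespace Groth.L27.Acyclic0

open Groth.L27.BigSets (ShConnected ShSubmersive)

/-- The morphism from a strictly local scheme is weakly étale. -/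
theorem weaklyEtale_fromStrict {X : Scheme.{u}} (x : X) (R : Type u) [CommRing R] [IsLocalRing R]
    [Algebra (X.presheaf.stalk x) R] [IsLocalHom (algebraMap (X.presheaf.stalk x) R)]
    [Hensel.IsStrictHenselization (X.presheaf.stalk x) R] :
    WeaklyEtale (Spec.map (CommRingCat.ofHom (algebraMap (X.presheaf.stalk x) R)) ≫ X.fromSpecStalk x) := by
  obtain ⟨U, hU, hxU, -⟩ := exists_isAffineOpen_mem_and_subset (X := X) (x := x) (U := ⊤) trivial
  letI : Algebra Γ(X, U) R := ((algebraMap (X.presheaf.stalk x) R).comp (X.presheaf.germ U x hxU).hom).toAlgebra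
  haveI h1 : Algebra.WeaklyEtale Γ(X, U) R := weaklyEtale_strict hU hxU R
  have e : Spec.map (CommRingCat.ofHom (algebraMap (X.presheaf.stalk x) R)) ≫ X.fromSpecStalk x =
      Spec.map (CommRingCat.ofHom (algebraMap Γ(X, U) R)) ≫ hU.fromSpec := by
    rw [← hU.fromSpecStalk_eq_fromSpecStalk hxU]
    show Spec.map _ ≫ Spec.map (X.presheaf.germ U x hxU) ≫ hU.fromSpec = _
    rw [← Spec.map_comp_assoc]
    rfl
  rw [e]
  haveI : WeaklyEtale (Spec.map (CommRingCat.ofHom (algebraMap Γ(X, U) R))) :=
    (Groth.L20.weaklyEtale_specMap_iff _).2 (by convert h1 using 1)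
  infer_instance

/-- Universally locally 0-acyclic morphisms induce universally submersive maps of strictly local schemes. -/
theorem shSubmersive_of_isULocZeroAcyclic {X Y : Scheme.{u}} (g : X ⟶ Y) (hg : EtAcyc.IsULocZeroAcyclic g) :
    ShSubmersive g := by
  intro x RS _ _ _ _ _ RX _ _ _ _ _ ψ _ hψ
  haveI := weaklyEtale_fromStrict (g.base x) RS
  haveI := weaklyEtale_fromStrict x RX
  refine univSubmersive_of_isULocZeroAcyclic g hg RS RX ψ
    (Spec.map (CommRingCat.ofHom (algebraMap (Y.presheaf.stalk (g.base x)) RS)) ≫ Y.fromSpecStalk (g.base x))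
    (Spec.map (CommRingCat.ofHom (algebraMap (X.presheaf.stalk x) RX)) ≫ X.fromSpecStalk x) ?_
    (surjective_of_connected _ fun Ω _ _ η => shConnected_of_isULocZeroAcyclic g hg x RS RX ψ hψ Ω η)
  rw [Category.assoc, ← Scheme.SpecMap_stalkMap_fromSpecStalk, ← Spec.map_comp_assoc, ← Spec.map_comp_assoc]
  refine congrArg (fun r => Spec.map r ≫ _) (CommRingCat.hom_ext ?_)
  exact hψ

end Groth.L27.Acyclic0
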