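import Groth.Agent.L27.Acyclic0.ZeroAcyclic
import Groth.Agent.L05.HensTensor.WEHens

/-! # Strictly henselian points which are weakly étale over a chart -/

universe u

open CategoryTheory CategoryTheory.Limits AlgebraicGeometry Opposite IsLocalRing

set_option autoImplicit false
set_option maxSynthPendingDepth 3
set_option backward.isDefEq.respectTransparency.types false
set_option linter.style.haveILetI false

noncomputable section

namespace Groth.L27.Acyclic0

/-- A strictly henselian ring weakly étale over an affine chart is a strict henselization of the local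
ring at the image of its closed point. -/
theorem isStrictHenselization_of_chart {X : Scheme.{u}} {D T : Type u} [CommRing D] [CommRing T]
    [HenselianLocalRing T] [IsSepClosed (ResidueField T)] [Algebra D T] [Algebra.WeaklyEtale D T]
    (c : Spec (CommRingCat.of D) ⟶ X) [IsOpenImmersion c] (x : X)
    [Algebra (X.presheaf.stalk x) T] [IsLocalHom (algebraMap (X.presheaf.stalk x) T)]
    (hφ : Spec.map (CommRingCat.ofHom (algebraMap (X.presheaf.stalk x) T)) ≫ X.fromSpecStalk x =
      Spec.map (CommRingCat.ofHom (algebraMap D T)) ≫ c) :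
    Hensel.IsStrictHenselization (X.presheaf.stalk x) T := by
  let O := X.presheaf.stalk x
  have hU : IsAffineOpen c.opensRange := isAffineOpen_opensRange c
  have hxU : x ∈ c.opensRange := by
    refine ⟨(Spec.map (CommRingCat.ofHom (algebraMap D T))) (closedPoint T), ?_⟩
    rw [← Scheme.Hom.comp_apply, ← hφ, Scheme.Hom.comp_apply,
      show (Spec.map (CommRingCat.ofHom (algebraMap O T))) (closedPoint T) = closedPoint O from
        IsLocalRing.comap_closedPoint (algebraMap O T)]
    exact Scheme.fromSpecStalk_closedPoint
  let U := Γ(X, c.opensRange)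
  let e : Spec (CommRingCat.of D) ≅ Spec U := IsOpenImmersion.isoOfRangeEq c hU.fromSpec (by
    rw [hU.range_fromSpec]
    rfl)
  letI : Algebra U T := ((algebraMap O T).comp (X.presheaf.germ c.opensRange x hxU).hom).toAlgebra
  have hθ : Spec.map (CommRingCat.ofHom (algebraMap U T)) =
      Spec.map (CommRingCat.ofHom (algebraMap D T)) ≫ e.hom := by
    rw [← cancel_mono hU.fromSpec, Category.assoc, IsOpenImmersion.isoOfRangeEq_hom_fac, ← hφ,
      ← hU.fromSpecStalk_eq_fromSpecStalk hxU]
    show Spec.map (X.presheaf.germ c.opensRange x hxU ≫ CommRingCat.ofHom (algebraMap O T)) ≫ hU.fromSpec = _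
    rw [Spec.map_comp, Category.assoc]
    rfl
  haveI : Algebra.WeaklyEtale U T := by
    let θD : U ⟶ CommRingCat.of D := Spec.preimage e.hom
    letI : Algebra U D := θD.hom.toAlgebra
    haveI : IsIso θD := ⟨Spec.preimage e.inv,
      Spec.map_injective (by simp [θD, Spec.map_preimage]),
      Spec.map_injective (by simp [θD, Spec.map_preimage])⟩
    haveI : Algebra.Etale U D :=
      RingHom.etale_algebraMap.mp (RingHom.Etale.of_bijective (ConcreteCategory.bijective_of_isIso θD))
    haveI : IsScalarTower U D T := IsScalarTower.of_algebraMap_eq' <| by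
      have : CommRingCat.ofHom (algebraMap U T) = θD ≫ CommRingCat.ofHom (algebraMap D T) :=
        Spec.map_injective (by rw [Spec.map_comp, Spec.map_preimage, hθ])
      exact congrArg CommRingCat.Hom.hom this
    exact Algebra.WeaklyEtale.trans U D T
  letI : Algebra U O := (X.presheaf.germ c.opensRange x hxU).hom.toAlgebra
  haveI : IsScalarTower U O T := IsScalarTower.of_algebraMap_eq' rfl
  haveI : IsLocalization.AtPrime O (hU.primeIdealOf ⟨x, hxU⟩).asIdeal := hU.isLocalization_stalk ⟨x, hxU⟩
  haveI := Groth.L20.weaklyEtale_isLocalization (hU.primeIdealOf ⟨x, hxU⟩).asIdeal.primeCompl O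
  haveI : Algebra.WeaklyEtale O T := by
    obtain ⟨h1, h2⟩ := Groth.L20.TorAmp.weaklyEtale_cancel U O T
    exact ⟨h1, h2⟩
  exact Groth.L05.HensTensor.isStrictHenselization_of_weaklyEtale O T

end Groth.L27.Acyclic0
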