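import Groth.Agent.L27.Acyclic0.Models
import Groth.Agent.L07.GeomReducedDescent
import Groth.Agent.L27.StalkRpush.Ring

/-! # Connected geometric fibres for flat maps with geometrically reduced fibres -/

universe u

open IsLocalRing TensorProduct

set_option autoImplicit false
set_option linter.style.haveILetI false
set_option maxSynthPendingDepth 3
set_option synthInstance.maxHeartbeats 400000

namespace Groth.L27.Acyclic0

/-- A strictly henselian ring is its own strict henselization. -/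
theorem isStrictHenselization_self (T : Type u) [CommRing T] [HenselianLocalRing T]
    [IsSepClosed (ResidueField T)] : Hensel.IsStrictHenselization T T := by
  haveI : IsLocalHom (algebraMap T T) := ⟨fun x hx => hx⟩
  refine { henselian := inferInstance, isSepClosure := ?_, universal := ?_ }
  · have hid : (ResidueField.instAlgebra : Algebra (ResidueField T) (ResidueField T)) = Algebra.id _ :=
      Algebra.algebra_ext _ _ (fun x => by
        obtain ⟨x, rfl⟩ := residue_surjective x
        rfl)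
    rw [hid]
    exact ⟨inferInstance, Algebra.isSeparable_self _⟩
  · intro S _ _ f _ τ hτ
    refine ⟨f, ⟨RingHom.comp_id f, fun x => ?_⟩, fun h hh => ?_⟩
    · refine ((DFunLike.congr_fun hτ (residue T x)).trans ?_).symm
      exact ResidueField.map_residue f x
    · exact (RingHom.comp_id h).symm.trans hh.1

/-- A weakly étale algebra that is strictly henselian is ind-étale. -/
theorem isIndEtale_of_weaklyEtale (C T : Type u) [CommRing C] [CommRing T] [HenselianLocalRing T]
    [IsSepClosed (ResidueField T)] [Algebra C T] [Algebra.WeaklyEtale C T] : EtPBC.IsIndEtale C T := by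
  let q : Ideal C := (maximalIdeal T).comap (algebraMap C T)
  let O := Localization.AtPrime q
  have hu : ∀ c : q.primeCompl, IsUnit (algebraMap C T c) := fun c =>
    Classical.not_not.1 fun h => c.2 ((mem_maximalIdeal _).2 h)
  letI : Algebra O T := (IsLocalization.lift hu : O →+* T).toAlgebra
  haveI : IsScalarTower C O T := IsScalarTower.of_algebraMap_eq fun c => (IsLocalization.lift_eq hu c).symm
  haveI : IsLocalHom (algebraMap O T) := ⟨fun x hx => by
    obtain ⟨a, s, rfl⟩ := IsLocalization.exists_mk'_eq q.primeCompl x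
    rw [IsLocalization.AtPrime.isUnit_mk'_iff O q]
    intro ha
    apply (mem_maximalIdeal _).1 ha
    have h1 := congrArg (algebraMap O T) (IsLocalization.mk'_spec O a s)
    rw [map_mul, ← IsScalarTower.algebraMap_apply, ← IsScalarTower.algebraMap_apply] at h1
    exact h1 ▸ hx.mul (hu s)⟩
  haveI := Groth.L20.weaklyEtale_isLocalization q.primeCompl O
  haveI : Algebra.WeaklyEtale O T := by
    obtain ⟨h1, h2⟩ := Groth.L20.TorAmp.weaklyEtale_cancel C O T
    exact ⟨h1, h2⟩
  haveI := isStrictHenselization_self T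
  haveI : IsLocalHom (algebraMap T T) := ⟨fun x hx => hx⟩
  have hS := (Groth.L20.StrictHensWE.weaklyEtale_iff O T).1 inferInstance T
  have hS' : Hensel.IsStrictHenselization O T := by
    convert hS.2 using 1
  haveI := hS'
  obtain ⟨e, -⟩ := Groth.L27.StalkRpush.exists_algEquiv C q O T
  exact Groth.L05.Henselization.isIndEtale_of_algEquiv e Groth.L05.Henselization.isIndEtale

/-- The map of tensor products induced by a base change of a weakly étale algebra is weakly étale. -/
theorem weaklyEtale_tensor_left (R A S C₀ : Type u) [CommRing R] [CommRing A] [CommRing S] [CommRing C₀]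
    [Algebra R A] [Algebra R S] [Algebra A S] [IsScalarTower R A S] [Algebra R C₀] [Algebra.WeaklyEtale A S]
    [Algebra (A ⊗[R] C₀) (S ⊗[R] C₀)] [IsScalarTower A (A ⊗[R] C₀) (S ⊗[R] C₀)]
    (H : (algebraMap (A ⊗[R] C₀) (S ⊗[R] C₀)).comp Algebra.TensorProduct.includeRight.toRingHom =
      Algebra.TensorProduct.includeRight.toRingHom) :
    Algebra.WeaklyEtale (A ⊗[R] C₀) (S ⊗[R] C₀) := by
  haveI h1 : Algebra.IsPushout A S (A ⊗[R] C₀) (S ⊗[R] C₀) :=
    Algebra.IsPushout.tensorProduct_tensorProduct R C₀ A S H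
  haveI h2 : Algebra.IsPushout A (A ⊗[R] C₀) S (S ⊗[R] C₀) := Algebra.IsPushout.symm h1
  exact weaklyEtale_of_equiv (Algebra.IsPushout.equiv A (A ⊗[R] C₀) S (S ⊗[R] C₀))

/-- The map of tensor products induced by a weakly étale algebra on the right is weakly étale. -/
theorem weaklyEtale_tensor_right (R S C C' : Type u) [CommRing R] [CommRing S] [CommRing C] [CommRing C']
    [Algebra R S] [Algebra R C] [Algebra R C'] [Algebra C C'] [IsScalarTower R C C'] [Algebra.WeaklyEtale C C']
    [Algebra (S ⊗[R] C) (S ⊗[R] C')] [IsScalarTower S (S ⊗[R] C) (S ⊗[R] C')]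
    (H : ∀ c : C, algebraMap (S ⊗[R] C) (S ⊗[R] C') (1 ⊗ₜ c) = 1 ⊗ₜ algebraMap C C' c) :
    Algebra.WeaklyEtale (S ⊗[R] C) (S ⊗[R] C') := by
  letI : Algebra C (S ⊗[R] C) := Algebra.TensorProduct.rightAlgebra
  letI : Algebra C' (S ⊗[R] C') := Algebra.TensorProduct.rightAlgebra
  letI : Algebra C (S ⊗[R] C') := ((algebraMap C' (S ⊗[R] C')).comp (algebraMap C C')).toAlgebra
  haveI : IsScalarTower C C' (S ⊗[R] C') := IsScalarTower.of_algebraMap_eq' rfl
  haveI : IsScalarTower C (S ⊗[R] C) (S ⊗[R] C') := IsScalarTower.of_algebraMap_eq fun c => (H c).symm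
  haveI : IsScalarTower R C' (S ⊗[R] C') := IsScalarTower.of_algebraMap_eq fun r =>
    ((Algebra.TensorProduct.includeRight : C' →ₐ[R] S ⊗[R] C').commutes r).symm
  haveI : IsScalarTower R C (S ⊗[R] C) := IsScalarTower.of_algebraMap_eq fun r =>
    ((Algebra.TensorProduct.includeRight : C →ₐ[R] S ⊗[R] C).commutes r).symm
  haveI : IsScalarTower R C (S ⊗[R] C') := IsScalarTower.of_algebraMap_eq fun r => by
    rw [IsScalarTower.algebraMap_apply C C' (S ⊗[R] C'), ← IsScalarTower.algebraMap_apply R C C',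
      ← IsScalarTower.algebraMap_apply]
  haveI : IsScalarTower R (S ⊗[R] C) (S ⊗[R] C') := IsScalarTower.of_algebraMap_eq fun r => by
    rw [IsScalarTower.algebraMap_apply R C (S ⊗[R] C), ← IsScalarTower.algebraMap_apply C (S ⊗[R] C),
      ← IsScalarTower.algebraMap_apply]
  haveI h1 : Algebra.IsPushout R C S (S ⊗[R] C) := inferInstance
  haveI h2 : Algebra.IsPushout R C' S (S ⊗[R] C') := inferInstance
  haveI h3 : Algebra.IsPushout C C' (S ⊗[R] C) (S ⊗[R] C') :=
    (Algebra.IsPushout.comp_iff R C S (S ⊗[R] C)).1 h2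
  haveI h4 : Algebra.IsPushout C (S ⊗[R] C) C' (S ⊗[R] C') := Algebra.IsPushout.symm h3
  exact weaklyEtale_of_equiv (Algebra.IsPushout.equiv C (S ⊗[R] C) C' (S ⊗[R] C'))

variable (RS RX K : Type u) [CommRing RS] [HenselianLocalRing RS] [IsSepClosed (ResidueField RS)]
  [CommRing RX] [HenselianLocalRing RX] [IsSepClosed (ResidueField RX)] [Algebra RS RX]
  [IsLocalHom (algebraMap RS RX)] [Module.Flat RS RX] [Field K] [Algebra RS K]

/-- Connectedness from a Noetherian model and weak étaleness. -/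
theorem connectedSpace_of_weaklyEtale (A₀ C₀ : Type u) [CommRing A₀] [IsNoetherianRing A₀] [CommRing C₀]
    [IsNoetherianRing C₀] [Algebra A₀ C₀] [Module.Flat A₀ C₀] [Algebra A₀ RS]
    [Algebra (RS ⊗[A₀] C₀) RX] [IsScalarTower RS (RS ⊗[A₀] C₀) RX] [Algebra.WeaklyEtale (RS ⊗[A₀] C₀) RX]
    (hred : ∀ (κ : Type u) [Field κ] [Algebra A₀ κ], _root_.IsReduced (C₀ ⊗[A₀] κ)) :
    ConnectedSpace (PrimeSpectrum (RX ⊗[RS] K)) :=
  connectedSpace_of_model RS RX K A₀ C₀ hred (isIndEtale_of_weaklyEtale _ _)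

variable (A B : Type u) [CommRing A] [CommRing B] [Algebra A B] [Module.Flat A B]
  [Algebra A RS] [Algebra B RX] [Algebra A RX] [IsScalarTower A B RX] [IsScalarTower A RS RX]
  [Algebra.WeaklyEtale A RS] [Algebra.WeaklyEtale B RX]
  (hred : ∀ (κ : Type u) [Field κ] [Algebra A κ], _root_.IsReduced (B ⊗[A] κ))

include hred in
/-- The Noetherian case. -/
theorem connectedSpace_of_noetherian [IsNoetherianRing A] [IsNoetherianRing B] :
    ConnectedSpace (PrimeSpectrum (RX ⊗[RS] K)) := by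
  letI : Algebra (RS ⊗[A] B) RX := (Algebra.TensorProduct.lift (IsScalarTower.toAlgHom RS RS RX)
    (IsScalarTower.toAlgHom A B RX) (fun _ _ => Commute.all _ _)).toRingHom.toAlgebra
  haveI : IsScalarTower RS (RS ⊗[A] B) RX := IsScalarTower.of_algebraMap_eq fun a => by
    show _ = Algebra.TensorProduct.lift _ _ _ (a ⊗ₜ (1 : B))
    simp
  haveI : Algebra.WeaklyEtale (RS ⊗[A] B) RX := by
    letI : Algebra B (RS ⊗[A] B) := Algebra.TensorProduct.rightAlgebra
    haveI : IsScalarTower B (RS ⊗[A] B) RX := IsScalarTower.of_algebraMap_eq fun b => by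
      show _ = Algebra.TensorProduct.lift _ _ _ ((1 : RS) ⊗ₜ b)
      simp
    haveI : Algebra.WeaklyEtale B (RS ⊗[A] B) := by
      let e : B ⊗[A] RS ≃ₐ[B] RS ⊗[A] B :=
        { (Algebra.TensorProduct.comm A B RS).toRingEquiv with commutes' := fun c => rfl }
      exact weaklyEtale_of_equiv e
    obtain ⟨h1, h2⟩ := Groth.L20.TorAmp.weaklyEtale_cancel B (RS ⊗[A] B) RX
    exact ⟨h1, h2⟩
  exact connectedSpace_of_weaklyEtale RS RX K A B hred

open Groth.L07.FlatGeomReduced in
/-- A localization away from an element has reduced fibres where the fibres are reduced. -/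
theorem isReduced_away_fibre {R C : Type u} [CommRing R] [CommRing C] [Algebra R C] (f : C)
    (h : ∀ (𝔓 : Ideal C) [𝔓.IsPrime], f ∉ 𝔓 → GeomRedAt R 𝔓)
    (κ : Type u) [Field κ] [Algebra R κ] : _root_.IsReduced (Localization.Away f ⊗[R] κ) := by
  let L := Localization.Away f ⊗[R] κ
  let m : C ⊗[R] κ →ₐ[R] L := Algebra.TensorProduct.map (IsScalarTower.toAlgHom R C _) (AlgHom.id R κ)
  let g : C ⊗[R] κ := f ⊗ₜ 1
  have hg : IsUnit (m g) := by
    show IsUnit (algebraMap C (Localization.Away f) f ⊗ₜ[R] (1 : κ))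
    exact (IsLocalization.Away.algebraMap_isUnit f).map
      (Algebra.TensorProduct.includeLeft : Localization.Away f →ₐ[R] L)
  have hsurj : ∀ z : L, ∃ (a : C ⊗[R] κ) (n : ℕ), z * m g ^ n = m a := fun z => by
    induction z using TensorProduct.induction_on with
    | zero => exact ⟨0, 0, by simp⟩
    | tmul x k =>
      obtain ⟨n, a, ha⟩ := IsLocalization.Away.surj f x
      refine ⟨a ⊗ₜ k, n, ?_⟩
      show (x ⊗ₜ[R] k) * (algebraMap C (Localization.Away f) f ⊗ₜ[R] (1 : κ)) ^ n = algebraMap C _ a ⊗ₜ k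
      rw [Algebra.TensorProduct.tmul_pow, one_pow, Algebra.TensorProduct.tmul_mul_tmul, mul_one, ha]
    | add x y hx hy =>
      obtain ⟨a, n, ha⟩ := hx
      obtain ⟨b, l, hb⟩ := hy
      refine ⟨a * g ^ l + b * g ^ n, n + l, ?_⟩
      rw [map_add, map_mul, map_mul, map_pow, map_pow, ← ha, ← hb]
      ring
  have hker : ∀ a : C ⊗[R] κ, m a = 0 → ∃ n : ℕ, g ^ n * a = 0 := by
    let S := Localization.Away g
    let gf : C →+* S := (algebraMap (C ⊗[R] κ) S).comp Algebra.TensorProduct.includeLeftRingHom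
    have hgf : IsUnit (gf f) := IsLocalization.Away.algebraMap_isUnit g
    let l : L →ₐ[R] S := Algebra.TensorProduct.lift
      ({ IsLocalization.Away.lift f hgf with
        commutes' := fun r => by
          show IsLocalization.Away.lift f hgf (algebraMap R (Localization.Away f) r) = _
          rw [IsScalarTower.algebraMap_apply R C (Localization.Away f), IsLocalization.Away.lift_eq f hgf,
            IsScalarTower.algebraMap_apply R (C ⊗[R] κ) S]
          rfl } : Localization.Away f →ₐ[R] S)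
      ((IsScalarTower.toAlgHom R (C ⊗[R] κ) S).comp Algebra.TensorProduct.includeRight)
      (fun _ _ => Commute.all _ _)
    have hl : ∀ a, l (m a) = algebraMap (C ⊗[R] κ) S a := fun a => by
      induction a using TensorProduct.induction_on with
      | zero => simp
      | add x y hx hy => rw [map_add, map_add, hx, hy, map_add]
      | tmul x k =>
        simp only [l, m, Algebra.TensorProduct.map_tmul, Algebra.TensorProduct.lift_tmul]
        show IsLocalization.Away.lift f hgf (algebraMap C (Localization.Away f) x) *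
          algebraMap (C ⊗[R] κ) S ((1 : C) ⊗ₜ k) = _
        rw [IsLocalization.Away.lift_eq f hgf]
        show algebraMap (C ⊗[R] κ) S (x ⊗ₜ 1) * _ = _
        rw [← map_mul]
        simp
    intro a ha
    obtain ⟨⟨_, n, rfl⟩, hn⟩ := (IsLocalization.map_eq_zero_iff (Submonoid.powers g) S a).1 (by
      rw [← hl, ha, map_zero])
    exact ⟨n, hn⟩
  refine ⟨fun z hz => ?_⟩
  obtain ⟨a, n, ha⟩ := hsurj z
  have hza : IsNilpotent (m a) := ha ▸ Commute.isNilpotent_mul_right (Commute.all _ _) hz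
  obtain ⟨k, hk⟩ := hza
  rw [← map_pow] at hk
  obtain ⟨j, hj⟩ := hker _ hk
  let ann : Ideal (C ⊗[R] κ) := (Submodule.span (C ⊗[R] κ) {a}).annihilator
  have hmem : g ∈ ann.radical := by
    rw [Ideal.radical_eq_sInf, Ideal.mem_sInf]
    rintro Q ⟨hQ, hQp⟩
    by_contra hgQ
    haveI := hQp
    have hf : f ∉ Q.comap Algebra.TensorProduct.includeLeftRingHom := hgQ
    haveI := h _ hf κ (by
      let P := Q.comap (algebraMap R (C ⊗[R] κ))
      ext r
      refine ⟨fun hr => ?_, fun hr => ?_⟩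
      · show algebraMap R C r ⊗ₜ[R] (1 : κ) ∈ Q
        rw [Algebra.algebraMap_eq_smul_one, TensorProduct.smul_tmul, ← Algebra.algebraMap_eq_smul_one,
          RingHom.mem_ker.1 hr, TensorProduct.tmul_zero]
        exact zero_mem Q
      · refine RingHom.mem_ker.2 (by_contra fun h0 => hQp.ne_top ((Ideal.eq_top_iff_one _).2 ?_))
        have h1 : algebraMap R C r ⊗ₜ[R] (1 : κ) * ((1 : C) ⊗ₜ (algebraMap R κ r)⁻¹) ∈ Q :=
          Ideal.mul_mem_right _ _ hr
        rw [Algebra.algebraMap_eq_smul_one, TensorProduct.smul_tmul, ← Algebra.algebraMap_eq_smul_one,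
          Algebra.TensorProduct.tmul_mul_tmul, mul_one, mul_inv_cancel₀ h0] at h1
        exact h1) Q rfl
    have h0 : algebraMap (C ⊗[R] κ) (Localization.AtPrime Q) a = 0 := by
      refine IsNilpotent.eq_zero ⟨k, ?_⟩
      rw [← map_pow]
      exact (IsLocalization.map_eq_zero_iff Q.primeCompl _ _).2 ⟨⟨g ^ j, fun hh => hgQ (hQp.mem_of_pow_mem _ hh)⟩, hj⟩
    obtain ⟨v, hv⟩ := (IsLocalization.map_eq_zero_iff Q.primeCompl _ _).1 h0
    exact v.2 (hQ (Submodule.mem_annihilator_span_singleton _ _ |>.2 hv))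
  obtain ⟨i, hi⟩ := hmem
  have h1 : m g ^ i * m a = 0 := by
    rw [← map_pow, ← map_mul, show g ^ i * a = 0 from Submodule.mem_annihilator_span_singleton _ _ |>.1 hi, map_zero]
  rw [← ha] at h1
  exact ((hg.pow n).mul_left_eq_zero).1 (((hg.pow i).mul_right_eq_zero).1 h1)

open Groth.L07.FlatGeomReduced in
include hred in
/-- The finitely presented case. -/
theorem connectedSpace_of_finitePresentation [Algebra.FinitePresentation A B] :
    ConnectedSpace (PrimeSpectrum (RX ⊗[RS] K)) := by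
  obtain ⟨A₀, _, B₀, _, _, _, hflat, ⟨e⟩⟩ := exists_flat_model A B
  let 𝔮 : Ideal (A ⊗[A₀] B₀) := ((maximalIdeal RX).comap (algebraMap B RX)).comap e.toAlgHom.toRingHom
  have hq : GeomRedAt A 𝔮 := fun L _ _ _ Q _ _ => by
    haveI := hred L
    let σ : (A ⊗[A₀] B₀) ⊗[A] L ≃ₐ[A] B ⊗[A] L := Algebra.TensorProduct.congr e AlgEquiv.refl
    haveI : _root_.IsReduced ((A ⊗[A₀] B₀) ⊗[A] L) := isReduced_of_injective σ σ.injective
    exact isReduced_localizationPreserves Q.primeCompl _ inferInstance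
  let q₀ : PrimeSpectrum B₀ := ⟨𝔮.comap
    (Algebra.TensorProduct.includeRight : B₀ →ₐ[A₀] A ⊗[A₀] B₀).toRingHom, inferInstance⟩
  have hloc : ∀ P : Ideal B₀, [P.IsPrime] → Module.Flat A₀ (Localization.AtPrime P) := fun P _ => by
    haveI : Module.Flat B₀ (Localization.AtPrime P) := IsLocalization.flat _ P.primeCompl
    exact Module.Flat.trans A₀ B₀ (Localization.AtPrime P)
  obtain ⟨_, ⟨_, ⟨f, rfl⟩, rfl⟩, hq₀, hsub⟩ := PrimeSpectrum.isBasis_basic_opens.exists_subset_of_mem_open
    (show q₀ ∈ {P : PrimeSpectrum B₀ | Module.Flat A₀ (Localization.AtPrime P.asIdeal) ∧ GeomRedAt A₀ P.asIdeal} from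
      ⟨hloc q₀.asIdeal, geomRedAt_descend _ hq⟩) (isOpen_flat_geomRedAt (R := A₀) (C := B₀))
  let C₀ := Localization.Away f
  have hredC : ∀ (κ : Type u) [Field κ] [Algebra A₀ κ], _root_.IsReduced (C₀ ⊗[A₀] κ) := fun κ _ _ =>
    isReduced_away_fibre f (fun 𝔓 h𝔓 hf => (hsub (show (⟨𝔓, h𝔓⟩ : PrimeSpectrum B₀) ∈ _ from hf)).2) κ
  haveI : Module.Flat A₀ C₀ := by
    haveI : Module.Flat B₀ C₀ := IsLocalization.flat _ (Submonoid.powers f)
    exact Module.Flat.trans A₀ B₀ C₀
  haveI : IsNoetherianRing B₀ := Algebra.FiniteType.isNoetherianRing A₀ B₀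
  haveI : IsNoetherianRing C₀ := IsLocalization.isNoetherianRing (Submonoid.powers f) _ inferInstance
  haveI : IsScalarTower A₀ A RX := inferInstance
  haveI : IsScalarTower A₀ A RS := inferInstance
  haveI : IsScalarTower A₀ RS RX := IsScalarTower.of_algebraMap_eq fun a => by
    rw [IsScalarTower.algebraMap_apply A₀ A RX, IsScalarTower.algebraMap_apply A₀ A RS,
      ← IsScalarTower.algebraMap_apply A RS RX]
  let εB : A ⊗[A₀] B₀ →+* RX := (algebraMap B RX).comp e.toAlgHom.toRingHom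
  let b₀ : B₀ →ₐ[A₀] RX :=
    { εB.comp (Algebra.TensorProduct.includeRight : B₀ →ₐ[A₀] A ⊗[A₀] B₀).toRingHom with
      commutes' := fun a => by
        show algebraMap B RX (e ((Algebra.TensorProduct.includeRight : B₀ →ₐ[A₀] A ⊗[A₀] B₀)
          (algebraMap A₀ B₀ a))) = _
        rw [AlgHom.commutes, IsScalarTower.algebraMap_apply A₀ A RX, IsScalarTower.algebraMap_apply A B RX,
          ← e.commutes]
        rfl }
  have hfu : IsUnit (b₀ f) := Classical.not_not.1 fun h => hq₀ ((mem_maximalIdeal _).2 h)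
  let c₀ : C₀ →ₐ[A₀] RX :=
    { IsLocalization.Away.lift f (g := b₀.toRingHom) hfu with
      commutes' := fun a => by
        show IsLocalization.Away.lift f _ (algebraMap A₀ C₀ a) = _
        rw [IsScalarTower.algebraMap_apply A₀ B₀ C₀, IsLocalization.Away.lift_eq]
        exact b₀.commutes a }
  letI : Algebra (RS ⊗[A₀] C₀) RX := (Algebra.TensorProduct.lift (IsScalarTower.toAlgHom RS RS RX)
    c₀ (fun _ _ => Commute.all _ _)).toRingHom.toAlgebra
  haveI : IsScalarTower RS (RS ⊗[A₀] C₀) RX := IsScalarTower.of_algebraMap_eq fun a => by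
    show _ = Algebra.TensorProduct.lift _ _ _ (a ⊗ₜ (1 : C₀))
    simp
  haveI : Algebra.WeaklyEtale (RS ⊗[A₀] C₀) RX := by
    let m₁ : A ⊗[A₀] B₀ →ₐ[A] RS ⊗[A₀] B₀ :=
      Algebra.TensorProduct.map (Algebra.ofId A RS) (AlgHom.id A₀ B₀)
    let m₂ : RS ⊗[A₀] B₀ →ₐ[RS] RS ⊗[A₀] C₀ :=
      Algebra.TensorProduct.map (AlgHom.id RS RS) (IsScalarTower.toAlgHom A₀ B₀ C₀)
    letI : Algebra (A ⊗[A₀] B₀) (RS ⊗[A₀] B₀) := m₁.toRingHom.toAlgebra
    haveI : IsScalarTower A (A ⊗[A₀] B₀) (RS ⊗[A₀] B₀) :=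
      IsScalarTower.of_algebraMap_eq fun a => (m₁.commutes a).symm
    letI : Algebra (RS ⊗[A₀] B₀) (RS ⊗[A₀] C₀) := m₂.toRingHom.toAlgebra
    haveI : IsScalarTower RS (RS ⊗[A₀] B₀) (RS ⊗[A₀] C₀) :=
      IsScalarTower.of_algebraMap_eq fun a => (m₂.commutes a).symm
    haveI : Algebra.WeaklyEtale (A ⊗[A₀] B₀) (RS ⊗[A₀] B₀) :=
      weaklyEtale_tensor_left A₀ A RS B₀ (RingHom.ext fun c => by
        show m₁ ((1 : A) ⊗ₜ c) = (1 : RS) ⊗ₜ c
        simp [m₁])
    haveI := Groth.L20.weaklyEtale_isLocalization (Submonoid.powers f) C₀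
    haveI : Algebra.WeaklyEtale (RS ⊗[A₀] B₀) (RS ⊗[A₀] C₀) :=
      weaklyEtale_tensor_right A₀ RS B₀ C₀ (fun c => rfl)
    letI : Algebra (RS ⊗[A₀] B₀) RX := ((algebraMap (RS ⊗[A₀] C₀) RX).comp m₂.toRingHom).toAlgebra
    haveI : IsScalarTower (RS ⊗[A₀] B₀) (RS ⊗[A₀] C₀) RX := IsScalarTower.of_algebraMap_eq' rfl
    letI : Algebra (A ⊗[A₀] B₀) RX := εB.toAlgebra
    haveI : IsScalarTower (A ⊗[A₀] B₀) (RS ⊗[A₀] B₀) RX := IsScalarTower.of_algebraMap_eq' <| by
      refine RingHom.ext fun z => ?_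
      induction z using TensorProduct.induction_on with
      | zero => simp
      | add x y hx hy => rw [map_add, map_add, hx, hy]
      | tmul a b =>
        show algebraMap B RX (e (a ⊗ₜ b)) =
          Algebra.TensorProduct.lift (IsScalarTower.toAlgHom RS RS RX) c₀ (fun _ _ => Commute.all _ _) (m₂ (m₁ (a ⊗ₜ b)))
        simp only [m₁, m₂, Algebra.TensorProduct.map_tmul, Algebra.TensorProduct.lift_tmul]
        have hab : e (a ⊗ₜ b) = algebraMap A B a * e ((1 : A) ⊗ₜ b) := by
          rw [← e.commutes, ← map_mul]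
          simp
        rw [hab, map_mul, ← IsScalarTower.algebraMap_apply]
        congr 1
        · exact IsScalarTower.algebraMap_apply A RS RX a
        · exact (IsLocalization.Away.lift_eq f hfu b).symm
    haveI : Algebra.WeaklyEtale (A ⊗[A₀] B₀) RX := by
      letI : Algebra (A ⊗[A₀] B₀) B := e.toAlgHom.toRingHom.toAlgebra
      haveI : IsScalarTower (A ⊗[A₀] B₀) B RX := IsScalarTower.of_algebraMap_eq' rfl
      haveI : Algebra.Etale (A ⊗[A₀] B₀) B :=
        RingHom.etale_algebraMap.mp (RingHom.Etale.of_bijective e.bijective)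
      exact Algebra.WeaklyEtale.trans (A ⊗[A₀] B₀) B RX
    haveI : Algebra.WeaklyEtale (RS ⊗[A₀] B₀) RX := by
      obtain ⟨h1, h2⟩ := Groth.L20.TorAmp.weaklyEtale_cancel (A ⊗[A₀] B₀) (RS ⊗[A₀] B₀) RX
      exact ⟨h1, h2⟩
    obtain ⟨h1, h2⟩ := Groth.L20.TorAmp.weaklyEtale_cancel (RS ⊗[A₀] B₀) (RS ⊗[A₀] C₀) RX
    exact ⟨h1, h2⟩
  exact connectedSpace_of_weaklyEtale RS RX K A₀ C₀ hredC

end Groth.L27.Acyclic0
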