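import Groth.Agent.L27.Acyclic0.FieldModel
import Groth.Agent.L27.TopInv.Hom
import Groth.Agent.L03.GeomReduced2
import Groth.Agent.L05.Hensel.IntegralDomain
import Groth.Prelude.Def_SGA1

/-! # Strictly local maps over a base with nilpotent maximal ideal -/

universe u

open CategoryTheory CategoryTheory.Limits AlgebraicGeometry IsLocalRing TensorProduct

set_option autoImplicit false
set_option linter.style.haveILetI false
set_option maxSynthPendingDepth 3
set_option maxHeartbeats 1000000
set_option synthInstance.maxHeartbeats 400000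
set_option backward.isDefEq.respectTransparency.types false

noncomputable section

namespace Groth.L27.Acyclic0

/-- Right factors of universally submersive composites. -/
theorem univSubmersive_of_comp {X Y Z : Scheme.{u}} (h : X ⟶ Y) (f : Y ⟶ Z)
    (H : SGA1.UnivSubmersive (h ≫ f)) : SGA1.UnivSubmersive f := by
  intro X' Y' i₁ i₂ f' sq
  have sq' := (IsPullback.of_hasPullback h i₁).flip.paste_horiz sq.flip.flip
  have h' : Topology.IsQuotientMap (pullback.snd h i₁ ≫ f').base := H _ _ _ sq'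
  rw [Scheme.Hom.comp_base, TopCat.coe_comp] at h'
  exact .of_comp (pullback.snd h i₁).continuous f'.continuous h'

/-- The characteristic exponent power is additive in algebras over a field. -/
theorem add_pow_expChar_algebra (P : Type u) [Field P] (q : ℕ) [ExpChar P q] (S : Type u) [CommRing S]
    [Algebra P S] (x y : S) (n : ℕ) : (x + y) ^ q ^ n = x ^ q ^ n + y ^ q ^ n := by
  rcases subsingleton_or_nontrivial S with h | h
  · exact Subsingleton.elim _ _
  · haveI := expChar_of_injective_algebraMap (algebraMap P S).injective q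
    exact add_pow_expChar_pow ..

/-- Being radicial is inherited by base change. -/
theorem pow_tensor (A P R : Type u) [CommRing A] [CommRing P] [CommRing R] [Algebra A P] [Algebra A R] (q : ℕ)
    (hq : 0 < q) (hadd : ∀ (x y : P ⊗[A] R) (n : ℕ), (x + y) ^ q ^ n = x ^ q ^ n + y ^ q ^ n)
    (hP : ∀ x : P, ∃ (n : ℕ) (a : A), algebraMap A P a = x ^ q ^ n) (z : P ⊗[A] R) :
    ∃ (n : ℕ) (r : R), (1 : P) ⊗ₜ[A] r = z ^ q ^ n := by
  induction z using TensorProduct.induction_on with
  | zero => exact ⟨0, 0, by simp⟩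
  | tmul a r =>
    obtain ⟨n, c, hc⟩ := hP a
    refine ⟨n, c • r ^ q ^ n, ?_⟩
    rw [Algebra.TensorProduct.tmul_pow, ← hc, Algebra.algebraMap_eq_smul_one, TensorProduct.smul_tmul]
  | add z w hz hw =>
    obtain ⟨n, r, hr⟩ := hz
    obtain ⟨m, s, hs⟩ := hw
    refine ⟨n + m, r ^ q ^ m + s ^ q ^ n, ?_⟩
    rw [hadd, TensorProduct.tmul_add, pow_add q n m, pow_mul, ← hr, mul_comm (q ^ n), pow_mul, ← hs,
      Algebra.TensorProduct.tmul_pow, Algebra.TensorProduct.tmul_pow, one_pow, one_pow]

/-- Radicial algebras over strictly henselian local rings are strictly henselian. -/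
theorem strictHenselian_of_radicial (T S : Type u) [CommRing T] [HenselianLocalRing T]
    [IsSepClosed (ResidueField T)] [CommRing S] [Nontrivial S] [Algebra T S] (q : ℕ) (hq : 0 < q)
    (h : ∀ s : S, ∃ (n : ℕ) (r : T), algebraMap T S r = s ^ q ^ n) :
    ∃ (_ : IsLocalRing S) (_ : HenselianLocalRing S),
      IsSepClosed (ResidueField S) ∧ Algebra.IsIntegral T S ∧ IsLocalHom (algebraMap T S) := by
  haveI : Algebra.IsIntegral T S := ⟨fun s => by
    obtain ⟨n, r, hr⟩ := h s
    exact IsIntegral.of_pow (pow_pos hq n) (hr ▸ isIntegral_algebraMap)⟩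
  have hmax : ∀ P : Ideal S, P.IsMaximal → ∀ s (n : ℕ) (r : T), algebraMap T S r = s ^ q ^ n →
      (s ∈ P ↔ r ∈ maximalIdeal T) := fun P hP s n r hr => by
    haveI := hP
    rw [← eq_maximalIdeal (Ideal.isMaximal_comap_of_isIntegral_of_isMaximal (R := T) P), Ideal.mem_comap, hr]
    exact ⟨fun hs => P.pow_mem_of_mem hs _ (pow_pos hq n), fun hs => hP.isPrime.mem_of_pow_mem _ hs⟩
  obtain ⟨P₀, hP₀⟩ := Ideal.exists_maximal S
  haveI : IsLocalRing S := IsLocalRing.of_unique_max_ideal ⟨P₀, hP₀, fun P hP => Ideal.ext fun s => by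
    obtain ⟨n, r, hr⟩ := h s
    rw [hmax P hP s n r hr, hmax P₀ hP₀ s n r hr]⟩
  haveI : IsLocalHom (algebraMap T S) := ((IsLocalRing.local_hom_TFAE _).out 0 4 rfl rfl).mpr
    (eq_maximalIdeal (Ideal.isMaximal_comap_of_isIntegral_of_isMaximal (R := T) (maximalIdeal S)))
  refine ⟨inferInstance, L05.henselianLocalRing_of_integral (A := T) S, ?_, inferInstance, inferInstance⟩
  haveI : Algebra.IsIntegral T (ResidueField S) := ⟨fun x => by
    obtain ⟨y, rfl⟩ := residue_surjective x
    exact (Algebra.IsIntegral.isIntegral (R := T) y).map (IsScalarTower.toAlgHom T S (ResidueField S))⟩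
  haveI : Algebra.IsIntegral (ResidueField T) (ResidueField S) := Algebra.IsIntegral.tower_top (R := T)
  exact L05.isSepClosed_of_algebraic (ResidueField T) (ResidueField S)

/-- Pairs of compatible ring maps extend to the tensor product. -/
theorem exists_tensor_hom (A P R F : Type u) [CommRing A] [CommRing P] [CommRing R] [CommRing F] [Algebra A P]
    [Algebra A R] (f : P →+* F) (g : R →+* F) (h : ∀ a, f (algebraMap A P a) = g (algebraMap A R a)) :
    ∃ Φ : P ⊗[A] R →+* F, (∀ p, Φ (p ⊗ₜ 1) = f p) ∧ ∀ r, Φ (1 ⊗ₜ r) = g r := by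
  letI : Algebra A F := (f.comp (algebraMap A P)).toAlgebra
  refine ⟨(Algebra.TensorProduct.lift ({ f with commutes' := fun _ => rfl } : P →ₐ[A] F)
    ({ g with commutes' := fun a => (h a).symm } : R →ₐ[A] F) (fun _ _ => Commute.all _ _)).toRingHom,
    fun p => ?_, fun r => ?_⟩
  · refine (Algebra.TensorProduct.lift_tmul _ _ _ _ _).trans ?_
    rw [map_one, mul_one]
    rfl
  · refine (Algebra.TensorProduct.lift_tmul _ _ _ _ _).trans ?_
    rw [map_one, one_mul]
    rfl

/-- Reduced algebras over perfect fields are geometrically reduced. -/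
theorem isReduced_tensor_perfect (P C κ : Type u) [Field P] [PerfectField P] [CommRing C] [Algebra P C]
    [_root_.IsReduced C] [Field κ] [Algebra P κ] : _root_.IsReduced (C ⊗[P] κ) := by
  haveI : _root_.IsReduced (P ⊗[P] C) :=
    isReduced_of_injective (Algebra.TensorProduct.lid P C).toAlgHom (Algebra.TensorProduct.lid P C).injective
  haveI : Algebra.IsGeometricallyReduced P C := (Algebra.isGeometricallyReduced_field_iff P C).2
    (L03.GeomReduced2.isReduced_baseChange_perfect P C P (AlgebraicClosure P))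
  haveI := L03.GeomReduced2.isReduced_of_isGeometricallyReduced (k := P) (S := C) κ
  exact isReduced_of_injective (Algebra.TensorProduct.comm P C κ).toAlgHom
    (Algebra.TensorProduct.comm P C κ).injective

variable (A₀ RS RX B P : Type u) [CommRing A₀] [CommRing RS] [HenselianLocalRing RS]
  [IsSepClosed (ResidueField RS)] [CommRing RX] [HenselianLocalRing RX] [IsSepClosed (ResidueField RX)]
  [Algebra RS RX] [IsLocalHom (algebraMap RS RX)] [CommRing B] [Algebra A₀ B] [Algebra A₀ RS]
  [Algebra (RS ⊗[A₀] B) RX] [IsScalarTower RS (RS ⊗[A₀] B) RX] [Algebra.WeaklyEtale (RS ⊗[A₀] B) RX]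
  [Field P] [PerfectField P] [Algebra A₀ P]

include B in
set_option maxHeartbeats 4000000 in
/-- Strictly local maps over a base radicially mapping to a perfect field are universally submersive with
connected geometric fibres. -/
theorem submersive_connected_of_radicial (q : ℕ) (hq : 0 < q) [ExpChar P q]
    (hP : ∀ x : P, ∃ (n : ℕ) (a : A₀), algebraMap A₀ P a = x ^ q ^ n)
    (hext : ∀ (F : Type u) [Field F] [IsAlgClosed F] (g : A₀ →+* F), ∃ ι : P →+* F, ι.comp (algebraMap A₀ P) = g) :
    SGA1.UnivSubmersive (Spec.map (CommRingCat.ofHom (algebraMap RS RX))) ∧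
      ∀ (K : Type u) [Field K] [IsAlgClosed K] [Algebra RS K], ConnectedSpace (PrimeSpectrum (RX ⊗[RS] K)) := by
  let RS' := P ⊗[A₀] RS
  let B' := P ⊗[A₀] B
  let C' := B' ⧸ nilradical B'
  haveI : _root_.IsReduced C' := (Ideal.isRadical_iff_quotient_reduced _).1 (Ideal.radical_isRadical _)
  let D := RS ⊗[A₀] B
  let D' := RS' ⊗[P] C'
  letI : Algebra RS RS' := Algebra.TensorProduct.rightAlgebra
  let mkC : B' →ₐ[P] C' := Ideal.Quotient.mkₐ P (nilradical B')
  let f₁ : RS →+* D' := (Algebra.TensorProduct.includeLeftRingHom : RS' →+* D').comp (algebraMap RS RS')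
  let f₂ : B →+* D' := (Algebra.TensorProduct.includeRight : C' →ₐ[P] D').toRingHom.comp
    (mkC.toRingHom.comp (Algebra.TensorProduct.includeRight : B →ₐ[A₀] B').toRingHom)
  obtain ⟨δ, hδ₁, hδ₂⟩ := exists_tensor_hom A₀ RS B D' f₁ f₂ fun a => by
    show ((Algebra.TensorProduct.includeRight : RS →ₐ[A₀] RS') (algebraMap A₀ RS a)) ⊗ₜ[P] (1 : C') =
      (1 : RS') ⊗ₜ[P] mkC ((Algebra.TensorProduct.includeRight : B →ₐ[A₀] B') (algebraMap A₀ B a))
    rw [AlgHom.commutes, AlgHom.commutes, IsScalarTower.algebraMap_apply A₀ P RS',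
      IsScalarTower.algebraMap_apply A₀ P B', AlgHom.commutes, ← Algebra.TensorProduct.algebraMap_apply]
    exact ((Algebra.TensorProduct.includeRight : C' →ₐ[P] D').commutes _).symm
  letI : Algebra D D' := δ.toAlgebra
  let T := D' ⊗[D] RX
  let oX : RX →ₐ[D] T := Algebra.TensorProduct.includeRight
  let oS : RS' →+* T := (algebraMap D' T).comp (algebraMap RS' D')
  have hoS : ∀ r : RS, oS (algebraMap RS RS' r) = oX (algebraMap RS RX r) := fun r => by
    rw [IsScalarTower.algebraMap_apply RS D RX]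
    refine Eq.trans ?_ (oX.commutes (algebraMap RS D r)).symm
    show (algebraMap RS RS' r ⊗ₜ[P] (1 : C')) ⊗ₜ[D] (1 : RX) = δ (r ⊗ₜ 1) ⊗ₜ[D] (1 : RX)
    rw [hδ₁]
    rfl
  -- radiciality
  have hS' : ∀ z : RS', ∃ (n : ℕ) (r : RS), algebraMap RS RS' r = z ^ q ^ n := fun z => by
    obtain ⟨n, r, hr⟩ := pow_tensor A₀ P RS q hq (add_pow_expChar_algebra P q RS') hP z
    exact ⟨n, r, hr⟩
  have hD' : ∀ d : D', ∃ (n : ℕ) (x : D), algebraMap D D' x = d ^ q ^ n := fun d => by
    induction d using TensorProduct.induction_on with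
    | zero => exact ⟨0, 0, by simp⟩
    | add x y hx hy =>
      obtain ⟨n, a, ha⟩ := hx
      obtain ⟨m, b, hb⟩ := hy
      refine ⟨n + m, a ^ q ^ m + b ^ q ^ n, ?_⟩
      rw [add_pow_expChar_algebra P q D', map_add, map_pow, map_pow, ha, hb, pow_add q n m, pow_mul,
        mul_comm (q ^ n), pow_mul]
    | tmul z c =>
      obtain ⟨c, rfl⟩ := Ideal.Quotient.mk_surjective c
      obtain ⟨n, r, hr⟩ := hS' z
      obtain ⟨m, b, hb⟩ := pow_tensor A₀ P B q hq (add_pow_expChar_algebra P q B') hP c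
      refine ⟨n + m, (r ⊗ₜ 1) ^ q ^ m * ((1 : RS) ⊗ₜ b) ^ q ^ n, ?_⟩
      show δ _ = _
      rw [map_mul, map_pow, map_pow, hδ₁, hδ₂, pow_add q n m, pow_mul]
      show (algebraMap RS RS' r ⊗ₜ[P] (1 : C')) ^ q ^ m * ((1 : RS') ⊗ₜ[P] mkC ((1 : P) ⊗ₜ b)) ^ q ^ n = _
      rw [hr, hb, Algebra.TensorProduct.tmul_pow, Algebra.TensorProduct.tmul_pow, one_pow, one_pow,
        Algebra.TensorProduct.tmul_mul_tmul, one_mul, mul_one, Algebra.TensorProduct.tmul_pow,
        Algebra.TensorProduct.tmul_pow, map_pow]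
      simp only [← pow_mul, mul_comm (q ^ m) (q ^ n)]
      rfl
  letI : Algebra P T := ((algebraMap D' T).comp (algebraMap P D')).toAlgebra
  have hT : ∀ t : T, ∃ (n : ℕ) (r : RX), oX r = t ^ q ^ n := fun t =>
    pow_tensor D D' RX q hq (add_pow_expChar_algebra P q T) hD' t
  -- points
  have hlift : ∀ (F : Type u) [Field F] (φ : RX →+* F) (κ : RS' →+* F),
      (∀ r, κ (algebraMap RS RS' r) = φ (algebraMap RS RX r)) →
      ∃ Φ : T →+* F, (∀ x, Φ (oX x) = φ x) ∧ ∀ z, Φ (oS z) = κ z := by
    intro F _ φ κ hκ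
    obtain ⟨Ψ₀, hΨ₁, hΨ₂⟩ := exists_tensor_hom A₀ P B F (κ.comp (algebraMap P RS'))
      (φ.comp ((algebraMap D RX).comp (Algebra.TensorProduct.includeRight : B →ₐ[A₀] D).toRingHom)) fun a => by
        show κ (algebraMap P RS' (algebraMap A₀ P a)) =
          φ (algebraMap D RX ((Algebra.TensorProduct.includeRight : B →ₐ[A₀] D) (algebraMap A₀ B a)))
        rw [AlgHom.commutes, ← IsScalarTower.algebraMap_apply A₀ P RS',
          ← (Algebra.TensorProduct.includeRight : RS →ₐ[A₀] RS').commutes,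
          IsScalarTower.algebraMap_apply A₀ RS D]
        refine (hκ _).trans (congrArg φ ?_)
        exact IsScalarTower.algebraMap_apply RS D RX _
    let Ψ : C' →+* F := Ideal.Quotient.lift _ Ψ₀ fun z hz => IsReduced.eq_zero _ ((mem_nilradical.1 hz).map Ψ₀)
    obtain ⟨Φ₀, hΦ₁, hΦ₂⟩ := exists_tensor_hom P RS' C' F κ Ψ fun x => (hΨ₁ x).symm
    have hcomp : Φ₀.comp δ = φ.comp (algebraMap D RX) := by
      refine RingHom.ext fun z => ?_
      induction z using TensorProduct.induction_on with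
      | zero => simp
      | add x y hx hy => rw [map_add, map_add, hx, hy]
      | tmul r b =>
        rw [show r ⊗ₜ[A₀] b = (r ⊗ₜ 1) * ((1 : RS) ⊗ₜ b) by
          rw [Algebra.TensorProduct.tmul_mul_tmul, mul_one, one_mul], map_mul, map_mul]
        show Φ₀ (δ (r ⊗ₜ 1)) * Φ₀ (δ (1 ⊗ₜ b)) = _
        rw [hδ₁, hδ₂]
        show Φ₀ (algebraMap RS RS' r ⊗ₜ 1) * Φ₀ ((1 : RS') ⊗ₜ mkC ((1 : P) ⊗ₜ b)) = _
        rw [hΦ₁, hΦ₂, hκ]
        show _ * Ψ₀ ((1 : P) ⊗ₜ b) = _
        rw [hΨ₂, IsScalarTower.algebraMap_apply RS D RX]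
        rfl
    obtain ⟨Φ, h₁, h₂⟩ := exists_tensor_hom D D' RX F Φ₀ φ (fun z => DFunLike.congr_fun hcomp z)
    exact ⟨Φ, h₂, fun z => (h₁ _).trans (hΦ₁ z)⟩
  have hlift' : ∀ (F : Type u) [Field F] [IsAlgClosed F] (g : RS →+* F),
      ∃ κ : RS' →+* F, ∀ r, κ (algebraMap RS RS' r) = g r := fun F _ _ g => by
    obtain ⟨ι, hι⟩ := hext F (g.comp (algebraMap A₀ RS))
    obtain ⟨κ, -, hκ⟩ := exists_tensor_hom A₀ P RS F ι g (fun a => DFunLike.congr_fun hι a)
    exact ⟨κ, hκ⟩
  haveI : Nontrivial T := by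
    let F := AlgebraicClosure (ResidueField RX)
    let φ : RX →+* F := (algebraMap (ResidueField RX) F).comp (residue RX)
    obtain ⟨κ, hκ⟩ := hlift' F (φ.comp (algebraMap RS RX))
    obtain ⟨Φ, -, -⟩ := hlift F φ κ hκ
    exact RingHom.domain_nontrivial Φ
  haveI : Nontrivial RS' := RingHom.domain_nontrivial oS
  obtain ⟨_, _, hsep₁, hint₁, hloc₁⟩ := strictHenselian_of_radicial RS RS' q hq hS'
  letI : Algebra RX T := Algebra.TensorProduct.rightAlgebra
  obtain ⟨_, _, hsep₂, hint₂, hloc₂⟩ := strictHenselian_of_radicial RX T q hq hT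
  haveI : IsScalarTower RS' D' T := inferInstance
  haveI : IsLocalHom (algebraMap RS' T) := ⟨fun z hz => by
    obtain ⟨n, r, hr⟩ := hS' z
    have h1 : IsUnit (algebraMap RX T (algebraMap RS RX r)) := by
      rw [show algebraMap RX T (algebraMap RS RX r) = oS (algebraMap RS RS' r) from (hoS r).symm, hr, map_pow]
      exact hz.pow _
    rw [isUnit_map_iff, isUnit_map_iff] at h1
    exact (isUnit_pow_iff (pow_pos hq n).ne').1 (hr ▸ h1.map _)⟩
  haveI : Module.Flat RS' D' := inferInstance
  haveI : Algebra.WeaklyEtale D' T := inferInstance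
  haveI : Module.Flat RS' T := Module.Flat.trans RS' D' T
  refine ⟨?_, fun K _ _ _ => ?_⟩
  · haveI : Module.FaithfullyFlat RS' T := Module.FaithfullyFlat.of_flat_of_isLocalHom
    let a := Spec.map (CommRingCat.ofHom (algebraMap RS' T))
    let b := Spec.map (CommRingCat.ofHom (algebraMap RS RS'))
    haveI : Flat a := (HasRingHomProperty.Spec_iff (P := @Flat)).mpr (RingHom.flat_algebraMap_iff.mpr ‹_›)
    haveI : Surjective a := ⟨PrimeSpectrum.comap_surjective_of_faithfullyFlat⟩
    haveI : IsIntegralHom b := IsIntegralHom.SpecMap_iff.mpr (algebraMap_isIntegral_iff.mpr hint₁)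
    haveI : Surjective b := ⟨fun (p : PrimeSpectrum RS) => by
      obtain ⟨κ, hκ⟩ := hlift' (AlgebraicClosure p.asIdeal.ResidueField)
        ((algebraMap p.asIdeal.ResidueField _).comp (algebraMap RS p.asIdeal.ResidueField))
      haveI := RingHom.ker_isPrime κ
      refine ⟨(⟨RingHom.ker κ, inferInstance⟩ : PrimeSpectrum RS'), PrimeSpectrum.ext (Ideal.ext fun r => ?_)⟩
      show κ (algebraMap RS RS' r) = 0 ↔ r ∈ p.asIdeal
      rw [hκ, RingHom.comp_apply, map_eq_zero_iff _ (RingHom.injective _), Ideal.algebraMap_residueField_eq_zero]⟩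
    have hab : SGA1.UnivSubmersive (a ≫ b) := by
      haveI : (AlgebraicGeometry.topologically fun f => Topology.IsQuotientMap f).IsStableUnderComposition :=
        topologically_isStableUnderComposition _ fun f g hf hg => hg.comp hf
      haveI : SGA1.UnivSubmersive.{u}.IsStableUnderComposition :=
        MorphismProperty.IsStableUnderComposition.universally _
      exact MorphismProperty.comp_mem _ a b (L27.TopInv.univSubmersive_of_fpqc a)
        (L27.TopInv.univSubmersive_of_universallyClosed b)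
    have heq : a ≫ b = Spec.map (CommRingCat.ofHom oX.toRingHom) ≫
        Spec.map (CommRingCat.ofHom (algebraMap RS RX)) := by
      rw [← Spec.map_comp, ← Spec.map_comp]
      exact congrArg Spec.map (CommRingCat.hom_ext (RingHom.ext hoS))
    exact univSubmersive_of_comp _ _ (heq ▸ hab)
  · obtain ⟨κ, hκ⟩ := hlift' K (algebraMap RS K)
    letI : Algebra RS' K := κ.toAlgebra
    letI : Algebra (RS' ⊗[P] C') T := (inferInstance : Algebra D' T)
    haveI : ConnectedSpace (PrimeSpectrum (T ⊗[RS'] K)) :=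
      connectedSpace_of_field_geomRed RS' T K P C' (fun F _ _ => isReduced_tensor_perfect P C' F)
        (isIndEtale_of_weaklyEtale _ _)
    obtain ⟨Θ, hΘ₁, hΘ₂⟩ := exists_tensor_hom RS RX K (T ⊗[RS'] K)
      ((Algebra.TensorProduct.includeLeftRingHom : T →+* T ⊗[RS'] K).comp oX.toRingHom)
      (Algebra.TensorProduct.includeRight : K →ₐ[RS'] T ⊗[RS'] K).toRingHom fun r => by
        show oX (algebraMap RS RX r) ⊗ₜ[RS'] (1 : K) = (1 : T) ⊗ₜ algebraMap RS K r
        rw [← hoS, ← hκ]
        exact (Algebra.TensorProduct.algebraMap_apply (algebraMap RS RS' r)).symm.trans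
          ((Algebra.TensorProduct.includeRight : K →ₐ[RS'] T ⊗[RS'] K).commutes _).symm
    haveI : Nontrivial (T ⊗[RS'] K) := by
      obtain ⟨x⟩ : Nonempty (PrimeSpectrum (T ⊗[RS'] K)) := inferInstance
      exact x.nontrivial
    haveI : Nontrivial (RX ⊗[RS] K) := RingHom.domain_nontrivial Θ
    have hnil : ∀ z, Θ z = 0 → IsNilpotent z := fun z hz => by
      refine mem_nilradical.1 (nilradical_eq_sInf (RX ⊗[RS] K) ▸ Ideal.mem_sInf.2 fun {Q} (hQ : Q.IsPrime) => ?_)
      let F := Q.ResidueField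
      let φS := algebraMap (RX ⊗[RS] K) F
      let φK : K →+* F := φS.comp (Algebra.TensorProduct.includeRight : K →ₐ[RS] RX ⊗[RS] K).toRingHom
      obtain ⟨Φ, hΦ₁, hΦ₂⟩ := hlift F (φS.comp Algebra.TensorProduct.includeLeftRingHom) (φK.comp κ) fun r => by
        show φS ((1 : RX) ⊗ₜ κ (algebraMap RS RS' r)) = φS (algebraMap RS RX r ⊗ₜ 1)
        rw [hκ]
        exact congrArg φS ((Algebra.TensorProduct.includeRight : K →ₐ[RS] RX ⊗[RS] K).commutes r)
      obtain ⟨Φ', h₁, h₂⟩ := exists_tensor_hom RS' T K F Φ φK (fun z => hΦ₂ z)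
      have hfac : Φ'.comp Θ = φS := by
        refine RingHom.ext fun w => ?_
        induction w using TensorProduct.induction_on with
        | zero => simp
        | add x y hx hy => rw [map_add, map_add, hx, hy]
        | tmul x k =>
          rw [show x ⊗ₜ[RS] k = (x ⊗ₜ 1) * ((1 : RX) ⊗ₜ k) by
            rw [Algebra.TensorProduct.tmul_mul_tmul, mul_one, one_mul], map_mul, map_mul]
          show Φ' (Θ (x ⊗ₜ 1)) * Φ' (Θ (1 ⊗ₜ k)) = _
          rw [hΘ₁, hΘ₂]
          show Φ' (oX x ⊗ₜ 1) * Φ' ((1 : T) ⊗ₜ k) = _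
          rw [h₁, h₂, hΦ₁]
          rfl
      refine Ideal.algebraMap_residueField_eq_zero.1 ?_
      show φS z = 0
      rw [← hfac, RingHom.comp_apply, hz, map_zero]
    refine Groth.L18.SchFin.connectedSpace_of_idem fun e he => ?_
    rcases idem_of_connectedSpace (he.map Θ) with h | h
    · exact Or.inl (he.eq_zero_of_isNilpotent (hnil e h))
    · exact Or.inr (sub_eq_zero.1 (he.one_sub.eq_zero_of_isNilpotent
        (hnil (1 - e) (by rw [map_sub, map_one, h, sub_self])))).symm

omit [PerfectField P] [Algebra A₀ P] in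
include B in
/-- Strictly local maps over a local base with nilpotent maximal ideal. -/
theorem submersive_connected_of_artinian [IsLocalRing A₀] (hnil : maximalIdeal A₀ ≤ nilradical A₀) :
    SGA1.UnivSubmersive (Spec.map (CommRingCat.ofHom (algebraMap RS RX))) ∧
      ∀ (K : Type u) [Field K] [IsAlgClosed K] [Algebra RS K], ConnectedSpace (PrimeSpectrum (RX ⊗[RS] K)) := by
  let k := ResidueField A₀
  let Q := perfectClosure k (AlgebraicClosure k)
  let q := ringExpChar k
  haveI : ExpChar Q q := expChar_of_injective_algebraMap (algebraMap k Q).injective q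
  letI : Algebra A₀ Q := ((algebraMap k Q).comp (residue A₀)).toAlgebra
  refine submersive_connected_of_radicial A₀ RS RX B Q q (expChar_pos Q q) (fun x => ?_) fun F _ _ g => ?_
  · obtain ⟨n, y, hy⟩ := IsPurelyInseparable.pow_mem k q x
    obtain ⟨a, rfl⟩ := residue_surjective y
    exact ⟨n, a, hy⟩
  · haveI : IsLocalHom g := ⟨fun a ha => Classical.not_not.1 fun h =>
      (((mem_nilradical.1 (hnil ((mem_maximalIdeal a).2 h))).map g).eq_zero ▸ ha).ne_zero rfl⟩
    letI : Algebra k F := (ResidueField.lift g).toAlgebra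
    let ι : Q →ₐ[k] F := IsAlgClosed.lift
    exact ⟨ι.toRingHom, RingHom.ext fun a => (ι.commutes (residue A₀ a)).trans (ResidueField.lift_residue_apply g a)⟩

end Groth.L27.Acyclic0
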