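import Groth.Agent.L27.NormalSepClosed.ConstSect
import Groth.Agent.L27.BigSets.Forget
import Groth.Agent.L27.MV.SES
import Groth.Prelude.Def_EtAcyc
import Mathlib.RingTheory.Localization.BaseChange
import Mathlib.RingTheory.Spectrum.Prime.Topology

/-! # 0-acyclic morphisms have connected generic fibres -/

universe u

open CategoryTheory CategoryTheory.Limits AlgebraicGeometry Opposite TopologicalSpace

set_option autoImplicit false
set_option backward.isDefEq.respectTransparency.types false
set_option linter.style.haveILetI false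

noncomputable section

namespace Groth.L27.Acyclic0

/-- If global sections of the constant sheaf pull back bijectively, then the preimage of an irreducible
scheme is connected. -/
theorem connectedSpace_of_bijective_cmp {X Y : Scheme.{u}} (f : Y ⟶ X) [IrreducibleSpace X]
    (h : Function.Bijective ((ConstSect.cmp (AddCommGrpCat.of (ULift.{u + 1} (ZMod 2))) f).hom.app
      (op (EtCoh.top X)))) :
    ConnectedSpace Y := by
  let A := AddCommGrpCat.of (ULift.{u + 1} (ZMod 2))
  let z : A := ULift.up 0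
  let o : A := ULift.up 1
  have hzo : z ≠ o := fun e => zero_ne_one (congrArg ULift.down e)
  let T := (EtCoh.bc f).obj (EtCoh.top X)
  haveI : Nonempty (EtCoh.top X).left := (inferInstance : Nonempty X)
  haveI : PreirreducibleSpace (EtCoh.top X).left := (inferInstance : PreirreducibleSpace X)
  have hne : Nonempty Y := by
    by_contra hY
    rw [not_nonempty_iff] at hY
    haveI : IsEmpty T.left := ⟨fun p => hY.false (T.hom.base p : Y)⟩
    exact hzo (ConstSect.cst_injective A (EtCoh.top X) (h.1 (ConstSect.eq_of_isEmpty (ConstSect.K A Y) T _ _)))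
  haveI := hne
  suffices hpre : PreconnectedSpace Y from ⟨hne⟩
  refine preconnectedSpace_iff_clopen.2 fun Q hQ => ?_
  let U : Y.Opens := ⟨Q, hQ.isOpen⟩
  let W : Y.Opens := ⟨Qᶜ, hQ.compl.isOpen⟩
  have hUW : U ⊔ W = ⊤ := TopologicalSpace.Opens.ext (Set.union_compl_self Q)
  haveI : IsEmpty ↥(U ⊓ W : Y.Opens) := ⟨fun p => p.2.2 p.2.1⟩
  haveI : IsEmpty (MV.oE (U ⊓ W)).left := ‹IsEmpty ↥(U ⊓ W : Y.Opens)›
  obtain ⟨t, ⟨htU, htW⟩, -⟩ := MV.exists_glue U W hUW (ConstSect.K A Y) (ConstSect.cst A (MV.oE U) o)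
    (ConstSect.cst A (MV.oE W) z) (ConstSect.eq_of_isEmpty _ _ _ _)
  let e := EtCore.bcTopIso f
  obtain ⟨s, hs⟩ := h.2 ((ConstSect.K A Y).obj.map e.hom.op t)
  obtain ⟨c, rfl⟩ := ConstSect.exists_eq_cst A (EtCoh.top X) s
  have ht : t = ConstSect.cst A (EtCoh.top Y) c := by
    rw [ConstSect.cmp_top] at hs
    have h2 := congrArg ((ConstSect.K A Y).obj.map e.inv.op) hs
    rw [ConstSect.map_cst, ← Functor.map_comp_apply, ← op_comp, Iso.inv_hom_id, op_id,
      CategoryTheory.Functor.map_id, ConcreteCategory.id_apply] at h2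
    exact h2.symm
  rw [ht, ConstSect.map_cst] at htU htW
  rcases Set.eq_empty_or_nonempty Q with hQe | ⟨q, hq⟩
  · exact Or.inl hQe
  rcases Set.eq_empty_or_nonempty Qᶜ with hQc | ⟨r, hr⟩
  · exact Or.inr (Set.compl_empty_iff.1 hQc)
  exfalso
  haveI : Nonempty (MV.oE U).left := ⟨(⟨q, hq⟩ : U)⟩
  haveI : Nonempty (MV.oE W).left := ⟨(⟨r, hr⟩ : W)⟩
  exact hzo ((ConstSect.cst_injective A _ htW).symm.trans (ConstSect.cst_injective A _ htU))

/-- Preimages of irreducible étale schemes under 0-acyclic morphisms are connected. -/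
theorem connectedSpace_of_isZeroAcyclic {X Y : Scheme.{u}} (g : X ⟶ Y) (hg : EtAcyc.IsZeroAcyclic g)
    (V : Y.Etale) [IrreducibleSpace V.left] : ConnectedSpace ↥(pullback V.hom g) := by
  let f : pullback V.hom g ⟶ V.left := EtAcyc.prj g V
  let A := AddCommGrpCat.of (ULift.{u + 1} (ZMod 2))
  let F := ConstSect.K A V.left
  refine connectedSpace_of_bijective_cmp f ?_
  haveI := hg V (BigSets.und F)
  haveI := BigSets.isIso_chi f F
  let T := (EtCoh.bc f).obj (EtCoh.top V.left)
  have h1 : Function.Bijective (EtSite.BC.eta f (BigSets.und F) (EtCoh.top V.left)) :=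
    (ConcreteCategory.bijective_of_isIso
      (((sheafToPresheaf _ _).map ((EtDesc.adjSh f).unit.app (BigSets.und F))).app (op (EtCoh.top V.left))))
  have h2 : Function.Bijective ((BigSets.chi f F).hom.app (op T)) :=
    (ConcreteCategory.bijective_of_isIso (((sheafToPresheaf _ _).map (BigSets.chi f F)).app (op T)))
  have hfun := BigSets.chi_eta f F (EtCoh.top V.left)
  have h3 : Function.Bijective (EtSite.BC.eta f F (EtCoh.top V.left)) := by
    refine ⟨fun a b e => (h2.comp h1).1 ((hfun a).trans (e.trans (hfun b).symm)), fun y => ?_⟩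
    obtain ⟨a, ha⟩ := (h2.comp h1).2 y
    exact ⟨a, (hfun a).symm.trans ha⟩
  have h4 : Function.Bijective (((EtCore.pullConstIso f).hom.app A).hom.app (op T)) :=
    (ConcreteCategory.bijective_of_isIso (((sheafToPresheaf _ _).map ((EtCore.pullConstIso f).hom.app A)).app (op T)))
  exact h4.comp h3

open TensorProduct in
/-- Generic fibres of 0-acyclic affine morphisms over domains have no nontrivial idempotent. -/
theorem idem_generic_of_isZeroAcyclic (B T L : Type u) [CommRing B] [IsDomain B] [CommRing T] [Algebra B T]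
    [Field L] [Algebra B L] [IsFractionRing B L]
    (hg : EtAcyc.IsZeroAcyclic (Spec.map (CommRingCat.ofHom (algebraMap B T)))) :
    Nontrivial (L ⊗[B] T) ∧ ∀ e : L ⊗[B] T, IsIdempotentElem e → e = 0 ∨ e = 1 := by
  have key : ∀ d : B, d ≠ 0 → ConnectedSpace (PrimeSpectrum (Localization.Away d ⊗[B] T)) := by
    intro d hd
    let Bd := Localization.Away d
    haveI : IsDomain Bd := IsLocalization.isDomain_localization
      (powers_le_nonZeroDivisors_of_noZeroDivisors hd)
    let v := Spec.map (CommRingCat.ofHom (algebraMap B Bd))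
    haveI : IsOpenImmersion v := IsOpenImmersion.of_isLocalization d
    let V : (Spec (CommRingCat.of B)).Etale := Scheme.Etale.mk v
    haveI : IrreducibleSpace V.left := (inferInstance : IrreducibleSpace (PrimeSpectrum Bd))
    haveI : ConnectedSpace ↥(pullback v (Spec.map (CommRingCat.ofHom (algebraMap B T)))) :=
      connectedSpace_of_isZeroAcyclic _ hg V
    let i := pullbackSpecIso B Bd T
    exact (i.hom.homeomorph.surjective.connectedSpace i.hom.continuous :
      ConnectedSpace ↥(Spec (CommRingCat.of (Bd ⊗[B] T))))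
  letI : Algebra T (L ⊗[B] T) := Algebra.TensorProduct.rightAlgebra
  let S := Algebra.algebraMapSubmonoid T (nonZeroDivisors B)
  haveI : IsLocalization S (L ⊗[B] T) := IsLocalization.tensorRight L (nonZeroDivisors B)
  have hres : ∀ d : B, d ≠ 0 → ∃ r : Localization.Away d ⊗[B] T →ₐ[B] L ⊗[B] T,
      ∀ t, r (1 ⊗ₜ t) = 1 ⊗ₜ t := fun d hd => by
    have hu : IsUnit (Algebra.ofId B L d) :=
      IsLocalization.map_units L (⟨d, mem_nonZeroDivisors_of_ne_zero hd⟩ : nonZeroDivisors B)
    refine ⟨Algebra.TensorProduct.map ({ IsLocalization.Away.lift d hu with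
      commutes' := fun b => IsLocalization.Away.lift_eq d hu b } : Localization.Away d →ₐ[B] L) (AlgHom.id B T),
      fun t => ?_⟩
    rw [Algebra.TensorProduct.map_tmul, map_one, AlgHom.id_apply]
  refine ⟨?_, fun e he => ?_⟩
  · by_contra h
    rw [not_nontrivial_iff_subsingleton] at h
    obtain ⟨⟨_, d, hd, rfl⟩, hd0⟩ := (IsLocalization.map_eq_zero_iff S (L ⊗[B] T) (1 : T)).1
      (Subsingleton.elim _ _)
    have hd' : d ≠ 0 := nonZeroDivisors.ne_zero hd
    haveI := key d hd'
    obtain ⟨P⟩ : Nonempty (PrimeSpectrum (Localization.Away d ⊗[B] T)) := inferInstance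
    apply P.isPrime.ne_top
    rw [Ideal.eq_top_iff_one]
    have hu : IsUnit (algebraMap B (Localization.Away d ⊗[B] T) d) :=
      (IsLocalization.Away.algebraMap_isUnit d).map
        (Algebra.TensorProduct.includeLeft : Localization.Away d →ₐ[B] Localization.Away d ⊗[B] T)
    have h0 : algebraMap B (Localization.Away d ⊗[B] T) d = 0 := by
      rw [← (Algebra.TensorProduct.includeRight : T →ₐ[B] Localization.Away d ⊗[B] T).commutes,
        ← mul_one (algebraMap B T d), show algebraMap B T d * 1 = 0 from hd0, map_zero]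
    rw [h0, isUnit_zero_iff] at hu
    exact hu ▸ P.asIdeal.zero_mem
  · obtain ⟨⟨t, ⟨_, d, hd, rfl⟩⟩, ht⟩ := IsLocalization.surj S e
    have h2 : algebraMap T (L ⊗[B] T) (t * t) = algebraMap T (L ⊗[B] T) (t * algebraMap B T d) := by
      rw [map_mul, map_mul, ← ht]
      calc e * algebraMap T _ (algebraMap B T d) * (e * algebraMap T _ (algebraMap B T d))
          = (e * e) * algebraMap T _ (algebraMap B T d) * algebraMap T _ (algebraMap B T d) := by ring
        _ = e * algebraMap T _ (algebraMap B T d) * algebraMap T _ (algebraMap B T d) := by rw [he.eq]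
    obtain ⟨⟨_, d', hd', rfl⟩, h3⟩ := (IsLocalization.eq_iff_exists S (L ⊗[B] T)).1 h2
    have hne : d * d' ≠ 0 := mul_ne_zero (nonZeroDivisors.ne_zero hd) (nonZeroDivisors.ne_zero hd')
    haveI := key _ hne
    obtain ⟨r, hr⟩ := hres _ hne
    let M := Localization.Away (d * d') ⊗[B] T
    let jT : T →ₐ[B] M := Algebra.TensorProduct.includeRight
    have hu : IsUnit (algebraMap B M (d * d')) :=
      (IsLocalization.Away.algebraMap_isUnit (d * d')).map
        (Algebra.TensorProduct.includeLeft : Localization.Away (d * d') →ₐ[B] M)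
    rw [map_mul, IsUnit.mul_iff] at hu
    obtain ⟨u, hu1⟩ := hu.1
    let e₀ : M := ↑u⁻¹ * jT t
    have h4 : jT t * jT t = jT t * algebraMap B M d := by
      have := congrArg jT h3
      simp only [map_mul, AlgHom.commutes] at this
      exact hu.2.mul_left_cancel this
    have he₀ : IsIdempotentElem e₀ := by
      show (↑u⁻¹ * jT t) * (↑u⁻¹ * jT t) = ↑u⁻¹ * jT t
      rw [← hu1] at h4
      calc (↑u⁻¹ * jT t) * (↑u⁻¹ * jT t) = ↑u⁻¹ * (↑u⁻¹ * (jT t * jT t)) := by ring
        _ = ↑u⁻¹ * ((↑u⁻¹ * ↑u) * jT t) := by rw [h4]; ring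
        _ = ↑u⁻¹ * jT t := by rw [Units.inv_mul, one_mul]
    have hre : r e₀ = e := by
      have hd1 : IsUnit (algebraMap B (L ⊗[B] T) d) := by
        have := hu.1.map r
        rwa [AlgHom.commutes] at this
      refine hd1.mul_left_inj.1 ?_
      rw [← r.commutes d, ← map_mul, mul_comm e₀, ← mul_assoc, ← hu1, Units.mul_inv, one_mul, hu1, r.commutes]
      show r (1 ⊗ₜ t) = _
      rw [hr]
      exact ht.symm.trans (congrArg (e * ·)
        ((Algebra.TensorProduct.includeRight : T →ₐ[B] L ⊗[B] T).commutes d))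
    rcases PrimeSpectrum.isClopen_iff.2 ⟨e₀, he₀, rfl⟩ |> isClopen_iff.1 with h | h
    · left
      obtain ⟨n, hn⟩ := (PrimeSpectrum.basicOpen_eq_bot_iff e₀).1 (TopologicalSpace.Opens.ext h)
      rw [← hre]
      rcases n with _ | n
      · rw [show e₀ = 0 by rw [← mul_one e₀, ← pow_zero e₀, hn, mul_zero], map_zero]
      · rw [he₀.pow_succ_eq] at hn; rw [hn, map_zero]
    · right
      rw [← hre]
      have h' : IsUnit e₀ := by
        by_contra hu'
        obtain ⟨m, hm, hem⟩ := exists_max_ideal_of_mem_nonunits (mem_nonunits_iff.2 hu')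
        have hmem : (⟨m, hm.isPrime⟩ : PrimeSpectrum M) ∈ (PrimeSpectrum.basicOpen e₀ : Set (PrimeSpectrum M)) :=
          h.symm ▸ Set.mem_univ _
        exact hmem hem
      rw [(IsIdempotentElem.iff_eq_one_of_isUnit h').1 he₀, map_one]

end Groth.L27.Acyclic0
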