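import Groth.Agent.L27.Acyclic0.Points
import Groth.Agent.L27.Acyclic0.ZeroAcyclicConn
import Groth.Agent.L05.HensTensor.Integral
import Groth.Agent.L05.Hensel.IntegralDomain

/-! # Universally locally 0-acyclic morphisms have connected geometric fibres on strictly local schemes -/

universe u

open CategoryTheory CategoryTheory.Limits AlgebraicGeometry Opposite IsLocalRing TensorProduct

set_option autoImplicit false
set_option maxSynthPendingDepth 3
set_option synthInstance.maxHeartbeats 400000
set_option maxHeartbeats 1000000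
set_option backward.isDefEq.respectTransparency.types false
set_option linter.style.haveILetI false

noncomputable section

namespace Groth.L27.Acyclic0

open Groth.L27.BigSets (ShConnected)

/-- Weak étaleness of a chart of strictly local schemes after base change. -/
theorem weaklyEtale_chart (A C RS RX B : Type u) [CommRing A] [CommRing C] [CommRing RS] [CommRing RX]
    [CommRing B] [Algebra A C] [Algebra A RS] [Algebra RS RX] [Algebra C RX] [Algebra A RX] [Algebra RS B]
    [Algebra A B] [IsScalarTower A RS RX] [IsScalarTower A C RX] [IsScalarTower A RS B]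
    [Algebra.WeaklyEtale A RS] [Algebra.WeaklyEtale C RX]
    [Algebra (C ⊗[A] B) (RX ⊗[RS] B)]
    (H : ∀ (c : C) (b : B), algebraMap (C ⊗[A] B) (RX ⊗[RS] B) (c ⊗ₜ b) = algebraMap C RX c ⊗ₜ b) :
    Algebra.WeaklyEtale (C ⊗[A] B) (RX ⊗[RS] B) := by
  let CS := RS ⊗[A] C
  letI : Algebra CS RX := (Algebra.TensorProduct.lift (IsScalarTower.toAlgHom RS RS RX)
    (IsScalarTower.toAlgHom A C RX) (fun _ _ => Commute.all _ _)).toRingHom.toAlgebra
  haveI : IsScalarTower RS CS RX := IsScalarTower.of_algebraMap_eq fun a => by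
    show _ = Algebra.TensorProduct.lift _ _ _ (a ⊗ₜ (1 : C))
    simp
  haveI : Algebra.WeaklyEtale CS RX := by
    letI : Algebra C CS := Algebra.TensorProduct.rightAlgebra
    haveI : IsScalarTower C CS RX := IsScalarTower.of_algebraMap_eq fun b => by
      show _ = Algebra.TensorProduct.lift _ _ _ ((1 : RS) ⊗ₜ b)
      simp
    haveI : Algebra.WeaklyEtale C CS := by
      let e : C ⊗[A] RS ≃ₐ[C] CS :=
        { (Algebra.TensorProduct.comm A C RS).toRingEquiv with commutes' := fun c => rfl }
      exact weaklyEtale_of_equiv e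
    obtain ⟨h1, h2⟩ := Groth.L20.TorAmp.weaklyEtale_cancel C CS RX
    exact ⟨h1, h2⟩
  let D' := CS ⊗[RS] B
  let ε : C ⊗[A] B ≃+* D' :=
    (Algebra.TensorProduct.comm A C B).toRingEquiv.trans
      ((Algebra.TensorProduct.cancelBaseChange A RS RS B C).toRingEquiv.symm.trans
        (Algebra.TensorProduct.comm RS B CS).toRingEquiv)
  letI : Algebra (C ⊗[A] B) D' := ε.toRingHom.toAlgebra
  haveI : Algebra.Etale (C ⊗[A] B) D' :=
    RingHom.etale_algebraMap.mp (RingHom.Etale.of_bijective ε.bijective)
  haveI : IsScalarTower (C ⊗[A] B) D' (D' ⊗[CS] RX) := inferInstance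
  haveI : Algebra.WeaklyEtale (C ⊗[A] B) (D' ⊗[CS] RX) := Algebra.WeaklyEtale.trans (C ⊗[A] B) D' _
  let θ : D' ⊗[CS] RX ≃+* RX ⊗[RS] B :=
    (Algebra.TensorProduct.comm CS D' RX).toRingEquiv.trans
      (Algebra.TensorProduct.cancelBaseChange RS CS CS RX B).toRingEquiv
  have hθ : ∀ z, θ (algebraMap (C ⊗[A] B) (D' ⊗[CS] RX) z) = algebraMap (C ⊗[A] B) (RX ⊗[RS] B) z := fun z => by
    induction z using TensorProduct.induction_on with
    | zero => simp
    | add x y hx hy => rw [map_add, map_add, map_add, hx, hy]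
    | tmul c b =>
      rw [H]
      have e1 : ε (c ⊗ₜ b) = ((1 : RS) ⊗ₜ[A] c) ⊗ₜ[RS] b := by
        simp [ε, Algebra.TensorProduct.cancelBaseChange_symm_tmul]
      show θ (ε (c ⊗ₜ b) ⊗ₜ[CS] (1 : RX)) = _
      rw [e1]
      show Algebra.TensorProduct.cancelBaseChange RS CS CS RX B ((1 : RX) ⊗ₜ[CS] (((1 : RS) ⊗ₜ[A] c) ⊗ₜ[RS] b)) = _
      rw [Algebra.TensorProduct.cancelBaseChange_tmul, Algebra.smul_def, mul_one]
      congr 1
      show Algebra.TensorProduct.lift _ _ _ ((1 : RS) ⊗ₜ[A] c) = _
      simp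
  exact weaklyEtale_of_equiv ({ θ with commutes' := hθ } : D' ⊗[CS] RX ≃ₐ[C ⊗[A] B] RX ⊗[RS] B)

open Groth.L07.FlatGeomReduced in
/-- Universally locally 0-acyclic morphisms have connected geometric fibres on strictly local schemes. -/
theorem shConnected_of_isULocZeroAcyclic {X Y : Scheme.{u}} (g : X ⟶ Y) (hg : EtAcyc.IsULocZeroAcyclic g) :
    ShConnected g := by
  intro x RS _ _ _ _ hRS RX _ _ _ _ hRX ψ _ hψ Ω _ _ η
  haveI := hRS.henselian
  haveI := hRX.henselian
  haveI : IsSepClosed (ResidueField RS) := hRS.isSepClosure.sep_closed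
  haveI : IsSepClosed (ResidueField RX) := hRX.isSepClosure.sep_closed
  obtain ⟨V, hV, hyV, -⟩ := exists_isAffineOpen_mem_and_subset (X := Y) (x := g.base x) (U := ⊤) trivial
  obtain ⟨W, hW, hxW, e⟩ := exists_isAffineOpen_mem_and_subset (X := X) (x := x) (U := g ⁻¹ᵁ V) hyV
  replace e : W ≤ g ⁻¹ᵁ V := e
  letI := (g.appLE V W e).hom.toAlgebra
  have halg : algebraMap Γ(Y, V) Γ(X, W) = (g.appLE V W e).hom := rfl
  let A := Γ(Y, V)
  let C := Γ(X, W)
  letI : Algebra A RS :=
    ((algebraMap (Y.presheaf.stalk (g.base x)) RS).comp (Y.presheaf.germ V (g.base x) hyV).hom).toAlgebra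
  haveI : Algebra.WeaklyEtale A RS := weaklyEtale_strict hV hyV RS
  letI : Algebra C RX := ((algebraMap (X.presheaf.stalk x) RX).comp (X.presheaf.germ W x hxW).hom).toAlgebra
  haveI : Algebra.WeaklyEtale C RX := weaklyEtale_strict hW hxW RX
  letI : Algebra RS RX := ψ.toAlgebra
  haveI : IsLocalHom (algebraMap RS RX) := ‹IsLocalHom ψ›
  letI : Algebra A RX := ((algebraMap C RX).comp (algebraMap A C)).toAlgebra
  haveI : IsScalarTower A C RX := IsScalarTower.of_algebraMap_eq' rfl
  haveI : IsScalarTower A RS RX := IsScalarTower.of_algebraMap_eq fun a => by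
    show algebraMap (X.presheaf.stalk x) RX ((X.presheaf.germ W x hxW) (g.appLE V W e a)) =
      ψ (algebraMap (Y.presheaf.stalk (g.base x)) RS (Y.presheaf.germ V (g.base x) hyV a))
    rw [← RingHom.comp_apply ψ, hψ]
    refine congrArg (algebraMap (X.presheaf.stalk x) RX) ?_
    show ((g.appLE V W e) ≫ X.presheaf.germ W x hxW).hom a = ((Y.presheaf.germ V (g.base x) hyV) ≫ g.stalkMap x).hom a
    rw [Scheme.Hom.germ_stalkMap, Scheme.Hom.appLE, Category.assoc, X.presheaf.germ_res]
  letI : Algebra RS Ω := (Spec.preimage η).hom.toAlgebra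
  -- the normalization of the base in the geometric point
  let B := integralClosure RS Ω
  haveI : IsLocalRing B := Groth.L05.isLocalRing_of_integral_domain (A := RS) B
  haveI : HenselianLocalRing B := Groth.L05.henselianLocalRing_of_integral (A := RS) B
  haveI : IsLocalHom (algebraMap RS B) := Groth.L05.HensTensor.isLocalHom_of_isIntegral RS B
  haveI : IsSepClosed (ResidueField B) := by
    haveI : Algebra.IsAlgebraic (ResidueField RS) (ResidueField B) := ⟨fun z => by
      obtain ⟨d, rfl⟩ := residue_surjective z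
      obtain ⟨f, hf, hfd⟩ := Algebra.IsIntegral.isIntegral (R := RS) d
      refine IsIntegral.isAlgebraic ⟨f.map (residue RS), hf.map _, ?_⟩
      rw [Polynomial.eval₂_map]
      have := congrArg (residue B) hfd
      rwa [Polynomial.hom_eval₂, map_zero] at this⟩
    exact Groth.L05.isSepClosed_of_algebraic (ResidueField RS) (ResidueField B)
  let T := RX ⊗[RS] B
  haveI : Nontrivial T := by
    haveI : Algebra.IsAlgebraic (ResidueField RS) (ResidueField B) := ⟨fun z => by
      obtain ⟨d, rfl⟩ := residue_surjective z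
      obtain ⟨f, hf, hfd⟩ := Algebra.IsIntegral.isIntegral (R := RS) d
      refine IsIntegral.isAlgebraic ⟨f.map (residue RS), hf.map _, ?_⟩
      rw [Polynomial.eval₂_map]
      have := congrArg (residue B) hfd
      rwa [Polynomial.hom_eval₂, map_zero] at this⟩
    let M := AlgebraicClosure (ResidueField RX)
    letI : Algebra (ResidueField RS) M :=
      ((algebraMap (ResidueField RX) M).comp (ResidueField.map (algebraMap RS RX))).toAlgebra
    let τ : ResidueField B →ₐ[ResidueField RS] M := IsAlgClosed.lift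
    letI : Algebra RS M := ((algebraMap (ResidueField RS) M).comp (residue RS)).toAlgebra
    let fX : RX →ₐ[RS] M :=
      { (algebraMap (ResidueField RX) M).comp (residue RX) with commutes' := fun r => rfl }
    let fB : B →ₐ[RS] M :=
      { τ.toRingHom.comp (residue B) with commutes' := fun r => τ.commutes (residue RS r) }
    exact (Algebra.TensorProduct.lift fX fB (fun _ _ => Commute.all _ _)).toRingHom.domain_nontrivial
  haveI : IsLocalRing T := Groth.L05.HensTensor.isLocalRing_tensor RS B RX
  haveI : HenselianLocalRing T := Groth.L05.henselianLocalRing_of_integral (A := RX) T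
  haveI : IsLocalHom (algebraMap RX T) := Groth.L05.HensTensor.isLocalHom_of_isIntegral RX T
  haveI : IsSepClosed (ResidueField T) := by
    haveI : Algebra.IsAlgebraic (ResidueField RX) (ResidueField T) := ⟨fun z => by
      obtain ⟨d, rfl⟩ := residue_surjective z
      obtain ⟨f, hf, hfd⟩ := Algebra.IsIntegral.isIntegral (R := RX) d
      refine IsIntegral.isAlgebraic ⟨f.map (residue RX), hf.map _, ?_⟩
      rw [Polynomial.eval₂_map]
      have := congrArg (residue T) hfd
      rwa [Polynomial.hom_eval₂, map_zero] at this⟩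
    exact Groth.L05.isSepClosed_of_algebraic (ResidueField RX) (ResidueField T)
  letI : Algebra B T := Algebra.TensorProduct.rightAlgebra
  haveI : IsScalarTower RS B T := IsScalarTower.of_algebraMap_eq fun r =>
    ((Algebra.TensorProduct.includeRight : B →ₐ[RS] T).commutes r).symm
  haveI : IsLocalHom (algebraMap B T) := by
    refine ((IsLocalRing.local_hom_TFAE (algebraMap B T)).out 0 4 rfl rfl).mpr (eq_maximalIdeal ?_)
    refine Ideal.isMaximal_of_isIntegral_of_isMaximal_comap (R := RS) _ ?_
    have h1 : ((maximalIdeal T).comap (algebraMap B T)).comap (algebraMap RS B) = maximalIdeal RS := by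
      rw [Ideal.comap_comap, ← IsScalarTower.algebraMap_eq RS B T, IsScalarTower.algebraMap_eq RS RX T,
        ← Ideal.comap_comap, IsLocalRing.maximalIdeal_comap (algebraMap RX T),
        IsLocalRing.maximalIdeal_comap (algebraMap RS RX)]
    rw [h1]
    infer_instance
  -- the chart of the base change
  letI : Algebra A B := ((algebraMap RS B).comp (algebraMap A RS)).toAlgebra
  haveI : IsScalarTower A RS B := IsScalarTower.of_algebraMap_eq' rfl
  let iC : C →ₐ[A] T := (Algebra.TensorProduct.includeLeft : RX →ₐ[A] T).comp (IsScalarTower.toAlgHom A C RX)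
  let iB : B →ₐ[A] T := (Algebra.TensorProduct.includeRight : B →ₐ[RS] T).restrictScalars A
  letI : Algebra (C ⊗[A] B) T :=
    (Algebra.TensorProduct.lift iC iB (fun _ _ => Commute.all _ _)).toRingHom.toAlgebra
  haveI : Algebra.WeaklyEtale (C ⊗[A] B) T := weaklyEtale_chart A C RS RX B fun c b => by
    show Algebra.TensorProduct.lift iC iB (fun _ _ => Commute.all _ _) (c ⊗ₜ b) = _
    simp only [iC, iB, Algebra.TensorProduct.lift_tmul, AlgHom.comp_apply, AlgHom.restrictScalars_apply,
      Algebra.TensorProduct.includeLeft_apply, Algebra.TensorProduct.includeRight_apply,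
      IsScalarTower.toAlgHom_apply, map_one]
    refine (Algebra.TensorProduct.tmul_mul_tmul _ _ _ _).trans ?_
    rw [one_mul, mul_one]
  obtain ⟨c, hc, -, hc2⟩ := exists_chart g hV hW e halg B
  haveI := hc
  let k : Spec (CommRingCat.of B) ⟶ Y := Spec.map (CommRingCat.ofHom (algebraMap A B)) ≫ hV.fromSpec
  let g₁ := pullback.snd g k
  let t := Spec.map (CommRingCat.ofHom (algebraMap (C ⊗[A] B) T)) ≫ c
  have ht : t ≫ g₁ = Spec.map (CommRingCat.ofHom (algebraMap B T)) := by
    rw [Category.assoc, hc2, ← Spec.map_comp]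
    refine congrArg Spec.map (CommRingCat.hom_ext (RingHom.ext fun b => ?_))
    show Algebra.TensorProduct.lift iC iB (fun _ _ => Commute.all _ _) ((1 : C) ⊗ₜ b) = (1 : RX) ⊗ₜ b
    simp only [iC, iB, Algebra.TensorProduct.lift_tmul, map_one, one_mul, AlgHom.restrictScalars_apply,
      Algebra.TensorProduct.includeRight_apply]
  let x₁ := t (closedPoint T)
  let y₁ := g₁.base x₁
  have hy₁ : y₁ = closedPoint B := by
    show g₁ (t (closedPoint T)) = _
    rw [← Scheme.Hom.comp_apply, ht]
    exact IsLocalRing.comap_closedPoint (algebraMap B T)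
  letI : Algebra ((pullback g k).presheaf.stalk x₁) T := (Scheme.stalkClosedPointTo t).hom.toAlgebra
  haveI : IsLocalHom (algebraMap ((pullback g k).presheaf.stalk x₁) T) :=
    Scheme.isLocalHom_stalkClosedPointTo' t
  have hX₁ : Spec.map (CommRingCat.ofHom (algebraMap ((pullback g k).presheaf.stalk x₁) T)) ≫
      (pullback g k).fromSpecStalk x₁ = t := Scheme.Spec_stalkClosedPointTo_fromSpecStalk t
  haveI : Hensel.IsStrictHenselization ((pullback g k).presheaf.stalk x₁) T :=
    isStrictHenselization_of_chart c x₁ hX₁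
  obtain ⟨φY, hφl, hφY⟩ : ∃ φ : (Spec (CommRingCat.of B)).presheaf.stalk y₁ →+* B, IsLocalHom φ ∧
      Spec.map (CommRingCat.ofHom φ) ≫ (Spec (CommRingCat.of B)).fromSpecStalk y₁ = 𝟙 _ := by
    rw [hy₁]
    exact ⟨(Scheme.stalkClosedPointTo (𝟙 (Spec (CommRingCat.of B)))).hom,
      Scheme.isLocalHom_stalkClosedPointTo' (𝟙 (Spec (CommRingCat.of B))),
      Scheme.Spec_stalkClosedPointTo_fromSpecStalk (𝟙 (Spec (CommRingCat.of B)))⟩
  letI : Algebra ((Spec (CommRingCat.of B)).presheaf.stalk (g₁.base x₁)) B := φY.toAlgebra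
  haveI : IsLocalHom (algebraMap ((Spec (CommRingCat.of B)).presheaf.stalk (g₁.base x₁)) B) := hφl
  haveI : Hensel.IsStrictHenselization ((Spec (CommRingCat.of B)).presheaf.stalk (g₁.base x₁)) B := by
    refine isStrictHenselization_of_chart (D := B) (𝟙 _) (g₁.base x₁) (hφY.trans ?_)
    rw [Category.comp_id]
    exact (Spec.map_id _).symm
  have hloc : EtAcyc.IsZeroAcyclic (Spec.map (CommRingCat.ofHom (algebraMap B T))) := by
    refine hg g₁ (pullback.fst g k) k (IsPullback.of_hasPullback g k) x₁ B T ?_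
    have : CommRingCat.ofHom φY ≫ CommRingCat.ofHom (algebraMap B T) =
        g₁.stalkMap x₁ ≫ CommRingCat.ofHom (algebraMap ((pullback g k).presheaf.stalk x₁) T) := by
      apply Spec.map_injective
      rw [← cancel_mono ((Spec (CommRingCat.of B)).fromSpecStalk (g₁.base x₁)), Spec.map_comp, Spec.map_comp,
        Category.assoc, Category.assoc, Scheme.SpecMap_stalkMap_fromSpecStalk]
      refine Eq.trans ?_ ((Category.assoc _ _ _).symm.trans ((eq_whisker hX₁ g₁).trans ht)).symm
      exact (whisker_eq _ hφY).trans (Category.comp_id _)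
    exact congrArg CommRingCat.Hom.hom this
  -- the generic fibre
  let L := FractionRing B
  obtain ⟨hnL, hL⟩ := idem_generic_of_isZeroAcyclic B T L hloc
  letI : Algebra L Ω := (IsFractionRing.lift (A := B) (K := L) (g := algebraMap B Ω)
    Subtype.val_injective).toAlgebra
  haveI : IsScalarTower B L Ω := IsScalarTower.of_algebraMap_eq fun b =>
    (IsFractionRing.lift_algebraMap Subtype.val_injective b).symm
  haveI : IsScalarTower RS L Ω := IsScalarTower.of_algebraMap_eq fun r => by
    rw [IsScalarTower.algebraMap_apply RS B L, ← IsScalarTower.algebraMap_apply B L Ω,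
      ← IsScalarTower.algebraMap_apply]
  haveI : IsAlgClosed L := IsAlgClosed.of_exists_root _ fun p hp hirr => by
    obtain ⟨r, hr⟩ := IsAlgClosed.exists_aeval_eq_zero Ω p hirr.degree_pos.ne'
    have hralg : IsAlgebraic B r := by
      rw [IsFractionRing.isAlgebraic_iff B L Ω]
      exact ⟨p, hp.ne_zero, hr⟩
    obtain ⟨d, hd0, hd⟩ := hralg.exists_integral_multiple
    have hmem : (d • r : Ω) ∈ integralClosure RS Ω := isIntegral_trans (R := RS) (A := B) _ hd
    let b : B := ⟨d • r, hmem⟩
    refine ⟨algebraMap B L b / algebraMap B L d, ?_⟩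
    have hd' : algebraMap B Ω d ≠ 0 := fun h => hd0 (Subtype.val_injective h)
    have hr' : algebraMap L Ω (algebraMap B L b / algebraMap B L d) = r := by
      rw [map_div₀, ← IsScalarTower.algebraMap_apply, ← IsScalarTower.algebraMap_apply, div_eq_iff hd']
      show (d • r : Ω) = _
      rw [Algebra.smul_def, mul_comm]
    apply (algebraMap L Ω).injective
    rw [map_zero, ← hr, ← hr', Polynomial.aeval_algebraMap_apply]
    rw [Polynomial.coe_aeval_eq_eval]
  let T' := B ⊗[RS] RX
  let σ : T ≃ₐ[B] T' := { (Algebra.TensorProduct.comm RS RX B).toRingEquiv with commutes' := fun b => rfl }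
  let ε : L ⊗[B] T ≃+* L ⊗[RS] RX :=
    (Algebra.TensorProduct.congr (AlgEquiv.refl : L ≃ₐ[B] L) σ).toRingEquiv.trans
      (Algebra.TensorProduct.cancelBaseChange RS B B L RX).toRingEquiv
  haveI : Nontrivial (L ⊗[RS] RX) := ε.toEquiv.nontrivial_congr.mp hnL |> id
  have hidem : ∀ z : L ⊗[RS] RX, IsIdempotentElem z → z = 0 ∨ z = 1 := fun z hz => by
    rcases hL (ε.symm z) (hz.map ε.symm) with h | h
    · exact Or.inl (ε.symm.injective (h.trans (map_zero ε.symm).symm))
    · exact Or.inr (ε.symm.injective (h.trans (map_one ε.symm).symm))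
  let δ : Ω ⊗[L] (L ⊗[RS] RX) ≃+* RX ⊗[RS] Ω :=
    (Algebra.TensorProduct.cancelBaseChange RS L L Ω RX).toRingEquiv.trans
      (Algebra.TensorProduct.comm RS Ω RX).toRingEquiv
  haveI : Module.FaithfullyFlat L Ω := inferInstance
  haveI : Nontrivial (Ω ⊗[L] (L ⊗[RS] RX)) := Module.FaithfullyFlat.lTensor_nontrivial L Ω _
  haveI : Nontrivial (RX ⊗[RS] Ω) := δ.toEquiv.symm.nontrivial
  haveI hconn : ConnectedSpace (PrimeSpectrum (RX ⊗[RS] Ω)) :=
    Groth.L18.SchFin.connectedSpace_of_idem fun z hz => by
      rcases Groth.L05.Henselization.FormalConnected.idem_tensor_of_isAlgClosed (k := L) hidem (δ.symm z)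
        (hz.map δ.symm) with h | h
      · exact Or.inl (δ.symm.injective (h.trans (map_zero δ.symm).symm))
      · exact Or.inr (δ.symm.injective (h.trans (map_one δ.symm).symm))
  have hη : η = Spec.map (CommRingCat.ofHom (algebraMap RS Ω)) := (Spec.map_preimage η).symm
  rw [hη]
  let i : pullback (Spec.map (CommRingCat.ofHom ψ)) (Spec.map (CommRingCat.ofHom (algebraMap RS Ω))) ≅
      Spec (CommRingCat.of (RX ⊗[RS] Ω)) := pullbackSpecIso RS RX Ω
  haveI : ConnectedSpace ↥(Spec (CommRingCat.of (RX ⊗[RS] Ω))) := hconn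
  exact i.inv.homeomorph.surjective.connectedSpace i.inv.continuous

end Groth.L27.Acyclic0
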