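import Groth.Agent.L27.Acyclic0.GeomRed

/-! # Connected fibres over a base field: geometrically reduced algebras of arbitrary type -/

universe u

open IsLocalRing TensorProduct

set_option autoImplicit false
set_option linter.style.haveILetI false
set_option maxSynthPendingDepth 3
set_option maxHeartbeats 1000000
set_option synthInstance.maxHeartbeats 400000

namespace Groth.L27.Acyclic0

/-- Fibres of a flat algebra descended to a smaller stage inject. -/
theorem exists_injective_fibre (R A C₁ C E₁ E K D : Type u) [CommRing R] [CommRing A] [CommRing C₁]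
    [CommRing C] [CommRing E₁] [CommRing E] [Field K] [CommRing D] [Algebra R A] [Algebra R C₁] [Algebra A C]
    [Algebra C₁ C] [Algebra R C] [IsScalarTower R C₁ C] [IsScalarTower R A C]
    [Algebra C₁ E₁] [Algebra R E₁] [IsScalarTower R C₁ E₁] [Module.Flat C₁ E₁]
    [Algebra C E] [Algebra A E] [IsScalarTower A C E]
    [Algebra A K] [Algebra R K] [IsScalarTower R A K] (σ : C ⊗[C₁] E₁ ≃ₐ[C] E)
    (j : C ⊗[A] K →+* D) (j₁ : C₁ ⊗[R] K →+* D)
    (hj₁ : ∀ (c : C₁) (k : K), j₁ (c ⊗ₜ k) = j (algebraMap C₁ C c ⊗ₜ k)) (hinj : Function.Injective j₁) :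
    ∃ ν : E₁ ⊗[R] K →+* E ⊗[A] K,
      Function.Injective ν ∧ ∀ (x : E₁) (k : K), ν (x ⊗ₜ k) = σ (1 ⊗ₜ x) ⊗ₜ k := by
  letI : Algebra C D := (j.comp Algebra.TensorProduct.includeLeftRingHom).toAlgebra
  letI : Algebra C₁ D := ((algebraMap C D).comp (algebraMap C₁ C)).toAlgebra
  haveI : IsScalarTower C₁ C D := IsScalarTower.of_algebraMap_eq' rfl
  letI : Algebra A D := ((algebraMap C D).comp (algebraMap A C)).toAlgebra
  haveI : IsScalarTower A C D := IsScalarTower.of_algebraMap_eq' rfl
  letI : Algebra R E := ((algebraMap A E).comp (algebraMap R A)).toAlgebra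
  haveI : IsScalarTower R A E := IsScalarTower.of_algebraMap_eq' rfl
  -- the comparison map
  let g : E₁ →ₐ[R] E :=
    { σ.toRingEquiv.toRingHom.comp (Algebra.TensorProduct.includeRight : E₁ →ₐ[C₁] C ⊗[C₁] E₁).toRingHom with
      commutes' := fun r => by
        show σ ((Algebra.TensorProduct.includeRight : E₁ →ₐ[C₁] C ⊗[C₁] E₁) (algebraMap R E₁ r)) = _
        rw [IsScalarTower.algebraMap_apply R C₁ E₁, AlgHom.commutes,
          IsScalarTower.algebraMap_apply C₁ C (C ⊗[C₁] E₁), σ.commutes, ← IsScalarTower.algebraMap_apply R C₁ C,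
          IsScalarTower.algebraMap_apply R A C, ← IsScalarTower.algebraMap_apply A C E]
        rfl }
  let ν : E₁ ⊗[R] K →+* E ⊗[A] K := (Algebra.TensorProduct.lift
    ((Algebra.TensorProduct.includeLeft : E →ₐ[R] E ⊗[A] K).comp g)
    ((Algebra.TensorProduct.includeRight : K →ₐ[A] E ⊗[A] K).restrictScalars R)
    (fun _ _ => Commute.all _ _)).toRingHom
  have hν : ∀ (x : E₁) (k : K), ν (x ⊗ₜ k) = σ (1 ⊗ₜ x) ⊗ₜ k := fun x k => by
    simp [ν, g]
  -- evaluation in `D ⊗ E₁`
  let eE : E →ₐ[A] D ⊗[C₁] E₁ :=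
    (((Algebra.TensorProduct.map (Algebra.ofId C D) (AlgHom.id C₁ E₁)).comp σ.symm.toAlgHom).restrictScalars A)
  let eK : K →ₐ[A] D ⊗[C₁] E₁ :=
    { Algebra.TensorProduct.includeLeftRingHom.comp
        (j.comp (Algebra.TensorProduct.includeRight : K →ₐ[A] C ⊗[A] K).toRingHom) with
      commutes' := fun a => by
        show j ((Algebra.TensorProduct.includeRight : K →ₐ[A] C ⊗[A] K) (algebraMap A K a)) ⊗ₜ[C₁] (1 : E₁) = _
        rw [AlgHom.commutes]
        rfl }
  let G := Algebra.TensorProduct.lift eE eK (fun _ _ => Commute.all _ _)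
  have hG : ∀ (x : E₁) (k : K), G (ν (x ⊗ₜ k)) = j₁ (1 ⊗ₜ k) ⊗ₜ[C₁] x := fun x k => by
    rw [hν, hj₁, map_one, Algebra.TensorProduct.lift_tmul]
    show Algebra.TensorProduct.map (Algebra.ofId C D) (AlgHom.id C₁ E₁) (σ.symm (σ (1 ⊗ₜ x))) *
      (j ((1 : C) ⊗ₜ k) ⊗ₜ[C₁] (1 : E₁)) = _
    rw [AlgEquiv.symm_apply_apply, Algebra.TensorProduct.map_tmul, map_one,
      Algebra.TensorProduct.tmul_mul_tmul, one_mul, AlgHom.id_apply, mul_one]
  let J : C₁ ⊗[R] K →ₗ[C₁] D :=
    { j₁ with
      map_smul' := fun c z => by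
        show j₁ (c • z) = c • j₁ z
        rw [Algebra.smul_def, map_mul, Algebra.smul_def, Algebra.TensorProduct.algebraMap_apply]
        congr 1
        rw [hj₁]
        rfl }
  let F : E₁ ⊗[R] K →+ D ⊗[C₁] E₁ :=
    (TensorProduct.comm C₁ E₁ D).toAddMonoidHom.comp ((LinearMap.lTensor E₁ J).toAddMonoidHom.comp
      (TensorProduct.AlgebraTensorModule.cancelBaseChange R C₁ C₁ E₁ K).symm.toAddMonoidHom)
  have hF : Function.Injective F :=
    (TensorProduct.comm C₁ E₁ D).injective.comp ((Module.Flat.lTensor_preserves_injective_linearMap J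
      (hinj : Function.Injective J)).comp (LinearEquiv.injective _))
  have hFG : ∀ z, G (ν z) = F z := fun z => by
    induction z using TensorProduct.induction_on with
    | zero => simp
    | add z w hz hw => rw [map_add, map_add, map_add, hz, hw]
    | tmul x k =>
      rw [hG]
      show _ = TensorProduct.comm C₁ E₁ D (LinearMap.lTensor E₁ J
        ((TensorProduct.AlgebraTensorModule.cancelBaseChange R C₁ C₁ E₁ K).symm (x ⊗ₜ k)))
      rw [TensorProduct.AlgebraTensorModule.cancelBaseChange_symm_tmul]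
      rfl
  refine ⟨ν, fun z w h => hF ?_, hν⟩
  rw [← hFG, ← hFG, h]

variable (A T K k C : Type u) [CommRing A] [HenselianLocalRing A] [IsSepClosed (ResidueField A)]
  [CommRing T] [HenselianLocalRing T] [IsSepClosed (ResidueField T)] [Algebra A T]
  [IsLocalHom (algebraMap A T)] [Module.Flat A T] [Field K] [Algebra A K]
  [Field k] [CommRing C] [Algebra k A] [Algebra k C]
  [Algebra (A ⊗[k] C) T] [IsScalarTower A (A ⊗[k] C) T]

set_option maxHeartbeats 4000000 in
/-- Fibres over strictly henselian algebras over a field are connected for geometrically reduced algebras. -/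
theorem connectedSpace_of_field_geomRed
    (hred : ∀ (κ : Type u) [Field κ] [Algebra k κ], _root_.IsReduced (C ⊗[k] κ))
    (h : EtPBC.IsIndEtale (A ⊗[k] C) T) : ConnectedSpace (PrimeSpectrum (T ⊗[A] K)) := by
  haveI : Module.FaithfullyFlat A T := Module.FaithfullyFlat.of_flat_of_isLocalHom
  haveI : Nontrivial (T ⊗[A] K) := Module.FaithfullyFlat.lTensor_nontrivial A T K
  refine Groth.L18.SchFin.connectedSpace_of_idem fun e he => ?_
  obtain ⟨E, _, _, _, _, _, β, e', he', rfl⟩ := exists_etale_idem h he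
  let Ct := A ⊗[k] C
  obtain ⟨C', E', _, _, hC', hE', ⟨σ⟩⟩ := Algebra.Etale.exists_subalgebra_fg (R := k) (A := Ct) (B := E)
  obtain ⟨gens, hgens⟩ := hC'
  classical
  let termsK : Finset (E × K) := (TensorProduct.exists_finset e').choose
  let termsE : E → Finset (Ct × E') := fun x => (TensorProduct.exists_finset (σ x)).choose
  let sT : Finset Ct := gens ∪ termsK.biUnion fun p => (termsE p.1).image Prod.fst
  let terms : Ct → Finset (A × C) := fun x => (TensorProduct.exists_finset x).choose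
  let sA : Finset A := sT.biUnion fun x => (terms x).image Prod.fst
  let sC : Finset C := sT.biUnion fun x => (terms x).image Prod.snd
  let A₁ : Subalgebra k A := Algebra.adjoin k (sA : Set A)
  let C₀ : Subalgebra k C := Algebra.adjoin k (sC : Set C)
  haveI : Algebra.FiniteType k A₁ := (Subalgebra.fg_iff_finiteType A₁).1 ⟨sA, rfl⟩
  haveI : Algebra.FiniteType k C₀ := (Subalgebra.fg_iff_finiteType C₀).1 ⟨sC, rfl⟩
  haveI : IsNoetherianRing A₁ := Algebra.FiniteType.isNoetherianRing k A₁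
  haveI : IsNoetherianRing C₀ := Algebra.FiniteType.isNoetherianRing k C₀
  let C₁ := A₁ ⊗[k] C₀
  let ι : C₁ →ₐ[k] Ct := Algebra.TensorProduct.map A₁.val C₀.val
  have hι : Function.Injective ι := by
    have : ⇑ι = ⇑(LinearMap.lTensor A C₀.val.toLinearMap) ∘ ⇑(LinearMap.rTensor C₀ A₁.val.toLinearMap) := by
      funext z
      induction z using TensorProduct.induction_on with
      | zero => simp
      | tmul a c => rfl
      | add x y hx hy =>
        simp only [Function.comp_apply] at hx hy ⊢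
        rw [map_add, map_add, map_add, hx, hy]
    rw [this]
    exact (Module.Flat.lTensor_preserves_injective_linearMap (M := A) C₀.val.toLinearMap
      Subtype.val_injective).comp (Module.Flat.rTensor_preserves_injective_linearMap (M := C₀)
      A₁.val.toLinearMap Subtype.val_injective)
  have hmem : ∀ x ∈ sT, x ∈ ι.toRingHom.range := fun x hx => by
    rw [(TensorProduct.exists_finset x).choose_spec]
    exact sum_mem fun p hp => ⟨(⟨p.1, Algebra.subset_adjoin (Finset.mem_coe.2
        (Finset.mem_biUnion.2 ⟨x, hx, Finset.mem_image_of_mem _ hp⟩))⟩ : A₁) ⊗ₜ (⟨p.2, Algebra.subset_adjoin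
        (Finset.mem_coe.2 (Finset.mem_biUnion.2 ⟨x, hx, Finset.mem_image_of_mem _ hp⟩))⟩ : C₀), rfl⟩
  have hr : ∀ x ∈ C', x ∈ ι.toRingHom.range := by
    intro x hx
    rw [← hgens] at hx
    refine Algebra.adjoin_induction (fun y hy => hmem y (Finset.mem_union_left _ (Finset.mem_coe.1 hy)))
      (fun c => ⟨algebraMap k C₁ c, ι.commutes c⟩) (fun y z _ _ => add_mem) (fun y z _ _ => mul_mem) hx
  let er : C₁ ≃+* ι.toRingHom.range := RingEquiv.ofBijective ι.toRingHom.rangeRestrict
    ⟨fun a b hab => hι (congrArg Subtype.val hab), ι.toRingHom.rangeRestrict_surjective⟩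
  let j : C' →+* C₁ := er.symm.toRingHom.comp
    (C'.val.toRingHom.codRestrict ι.toRingHom.range fun x => hr x x.2)
  have hj : ∀ x, ι (j x) = (x : Ct) := fun x => congrArg Subtype.val (er.apply_symm_apply _)
  letI : Algebra C' C₁ := j.toAlgebra
  letI : Algebra C₁ Ct := ι.toRingHom.toAlgebra
  haveI : IsScalarTower C' C₁ Ct := IsScalarTower.of_algebraMap_eq fun x => (hj x).symm
  haveI : IsScalarTower A₁ C₁ Ct := IsScalarTower.of_algebraMap_eq fun a => by
    show _ = ι (a ⊗ₜ (1 : C₀))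
    simp [ι]
    rfl
  haveI : IsNoetherianRing C₁ := isNoetherianRing_baseChange k A₁ C₀
  let E₁ := C₁ ⊗[C'] E'
  haveI : IsNoetherianRing E₁ := Algebra.FiniteType.isNoetherianRing C₁ E₁
  haveI : Module.Flat C₁ E₁ := inferInstance
  let σ₁ := (Algebra.TensorProduct.cancelBaseChange C' C₁ Ct Ct E').trans σ.symm
  -- the target of evaluation
  letI : Algebra k K := ((algebraMap A K).comp (algebraMap k A)).toAlgebra
  haveI : IsScalarTower k A K := IsScalarTower.of_algebraMap_eq' rfl
  haveI : IsScalarTower k A₁ K := IsScalarTower.of_algebraMap_eq fun a => rfl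
  let D := C ⊗[k] K
  letI : Algebra A D :=
    ((Algebra.TensorProduct.includeRight : K →ₐ[k] D).toRingHom.comp (algebraMap A K)).toAlgebra
  let dC : Ct →ₐ[k] D := Algebra.TensorProduct.lift
    ((Algebra.TensorProduct.includeRight : K →ₐ[k] D).comp (IsScalarTower.toAlgHom k A K))
    Algebra.TensorProduct.includeLeft (fun _ _ => Commute.all _ _)
  let dCA : Ct →ₐ[A] D :=
    { dC.toRingHom with
      commutes' := fun a => by
        show dC (a ⊗ₜ (1 : C)) = (1 : C) ⊗ₜ[k] algebraMap A K a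
        refine (Algebra.TensorProduct.lift_tmul _ _ _ _ _).trans ?_
        rw [map_one]
        exact mul_one _ }
  let kA : K →ₐ[A] D :=
    { (Algebra.TensorProduct.includeRight : K →ₐ[k] D).toRingHom with commutes' := fun _ => rfl }
  let jD := Algebra.TensorProduct.lift dCA kA (fun _ _ => Commute.all _ _)
  haveI : IsScalarTower A₁ A₁ D := ⟨fun x y z => mul_smul x y z⟩
  let j₁ : C₁ ⊗[A₁] K →+* D := (Algebra.TensorProduct.lift
    ({ dC.toRingHom.comp (algebraMap C₁ Ct) with
      commutes' := fun a => by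
        show dC (algebraMap C₁ Ct (algebraMap A₁ C₁ a)) = algebraMap A D a.1
        rw [← IsScalarTower.algebraMap_apply A₁ C₁ Ct, IsScalarTower.algebraMap_apply A₁ A Ct]
        exact dCA.commutes a.1 } : C₁ →ₐ[A₁] D)
    ({ (Algebra.TensorProduct.includeRight : K →ₐ[k] D).toRingHom with commutes' := fun _ => rfl } : K →ₐ[A₁] D)
    (fun _ _ => Commute.all _ _)).toRingHom
  have hj₁ : ∀ (c : C₁) (x : K), j₁ (c ⊗ₜ x) = jD (algebraMap C₁ Ct c ⊗ₜ x) := fun c x =>
    (Algebra.TensorProduct.lift_tmul _ _ _ _ _).trans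
      (Algebra.TensorProduct.lift_tmul dCA kA (fun _ _ => Commute.all _ _) (algebraMap C₁ Ct c) x).symm
  have hinj : Function.Injective j₁ := by
    let s : C₀ ⊗[k] K →ₐ[k] C₁ ⊗[A₁] K := Algebra.TensorProduct.lift
      ((Algebra.TensorProduct.includeLeft : C₁ →ₐ[k] C₁ ⊗[A₁] K).comp Algebra.TensorProduct.includeRight)
      ((Algebra.TensorProduct.includeRight : K →ₐ[A₁] C₁ ⊗[A₁] K).restrictScalars k) (fun _ _ => Commute.all _ _)
    let m : C₀ ⊗[k] K →ₐ[k] D := Algebra.TensorProduct.map C₀.val (AlgHom.id k K)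
    have hm : Function.Injective m :=
      Module.Flat.rTensor_preserves_injective_linearMap (M := K) C₀.val.toLinearMap Subtype.val_injective
    have hs : ∀ z, j₁ (s z) = m z := fun z => by
      induction z using TensorProduct.induction_on with
      | zero => simp
      | add z w hz hw => rw [map_add, map_add, map_add, hz, hw]
      | tmul c x =>
        have h1 : s (c ⊗ₜ x) = ((1 : A₁) ⊗ₜ c) ⊗ₜ x := by
          refine (Algebra.TensorProduct.lift_tmul _ _ _ _ _).trans ?_
          show (((1 : A₁) ⊗ₜ c) ⊗ₜ[A₁] (1 : K)) * ((1 : C₁) ⊗ₜ x) = _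
          rw [Algebra.TensorProduct.tmul_mul_tmul, one_mul, mul_one]
        rw [h1, hj₁]
        refine (Algebra.TensorProduct.lift_tmul _ _ _ _ _).trans ?_
        have h2 : dCA (algebraMap C₁ Ct ((1 : A₁) ⊗ₜ c)) = c.1 ⊗ₜ[k] (1 : K) := by
          show dC (A₁.val 1 ⊗ₜ C₀.val c) = _
          refine (Algebra.TensorProduct.lift_tmul _ _ _ _ _).trans ?_
          rw [map_one, map_one, one_mul]
          rfl
        rw [h2]
        show c.1 ⊗ₜ[k] (1 : K) * ((1 : C) ⊗ₜ x) = c.1 ⊗ₜ x
        rw [Algebra.TensorProduct.tmul_mul_tmul, mul_one, one_mul]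
    have hsurj : Function.Surjective s := fun z => by
      induction z using TensorProduct.induction_on with
      | zero => exact ⟨0, map_zero _⟩
      | add z w hz hw =>
        obtain ⟨a, rfl⟩ := hz; obtain ⟨b, rfl⟩ := hw
        exact ⟨a + b, map_add _ _ _⟩
      | tmul y x =>
        induction y using TensorProduct.induction_on with
        | zero => exact ⟨0, by rw [map_zero, TensorProduct.zero_tmul]⟩
        | add y y' hy hy' =>
          obtain ⟨a, ha⟩ := hy; obtain ⟨b, hb⟩ := hy'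
          exact ⟨a + b, by rw [map_add, ha, hb, TensorProduct.add_tmul]⟩
        | tmul a c =>
          refine ⟨c ⊗ₜ (a • x), ?_⟩
          simp only [s, Algebra.TensorProduct.lift_tmul]
          show (((1 : A₁) ⊗ₜ c) ⊗ₜ[A₁] (1 : K)) * ((1 : C₁) ⊗ₜ (a • x)) = _
          rw [Algebra.TensorProduct.tmul_mul_tmul, one_mul, mul_one, ← TensorProduct.smul_tmul,
            TensorProduct.smul_tmul', smul_eq_mul, mul_one]
    intro z w hzw
    obtain ⟨z, rfl⟩ := hsurj z
    obtain ⟨w, rfl⟩ := hsurj w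
    rw [hs, hs] at hzw
    rw [hm hzw]
  obtain ⟨ν, hνinj, hν⟩ := exists_injective_fibre A₁ A C₁ Ct E₁ E K D σ₁ jD.toRingHom j₁ hj₁ hinj
  -- the idempotent comes from the stage
  have hrange : e' ∈ ν.range := by
    rw [(TensorProduct.exists_finset e').choose_spec]
    refine sum_mem fun p hp => ?_
    have hx : ∀ x : E, σ x = ∑ q ∈ termsE x, q.1 ⊗ₜ[C'] q.2 := fun x =>
      (TensorProduct.exists_finset (σ x)).choose_spec
    rw [show p.1 = σ.symm (σ p.1) from (σ.symm_apply_apply _).symm, hx, map_sum, TensorProduct.sum_tmul]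
    refine sum_mem fun q hq => ?_
    obtain ⟨c, hc⟩ := hmem q.1 (Finset.mem_union_right _ (Finset.mem_biUnion.2
      ⟨p, hp, Finset.mem_image_of_mem _ hq⟩))
    refine ⟨(c ⊗ₜ[C'] q.2) ⊗ₜ p.2, ?_⟩
    rw [hν]
    congr 1
    show σ.symm (Algebra.TensorProduct.cancelBaseChange C' C₁ Ct Ct E' ((1 : Ct) ⊗ₜ (c ⊗ₜ q.2))) = _
    rw [Algebra.TensorProduct.cancelBaseChange_tmul, Algebra.smul_def, mul_one]
    exact congrArg (fun y => σ.symm (y ⊗ₜ q.2)) hc
  haveI : Module.Flat A₁ E₁ := Module.Flat.trans A₁ C₁ E₁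
  have hred₁ : ∀ (κ : Type u) [Field κ] [Algebra A₁ κ], _root_.IsReduced (E₁ ⊗[A₁] κ) := fun κ _ _ => by
    letI : Algebra k κ := ((algebraMap A₁ κ).comp (algebraMap k A₁)).toAlgebra
    haveI : IsScalarTower k A₁ κ := IsScalarTower.of_algebraMap_eq' rfl
    haveI := hred κ
    haveI : _root_.IsReduced (C₀ ⊗[k] κ) :=
      isReduced_of_injective (Algebra.TensorProduct.map C₀.val (AlgHom.id k κ))
        (Module.Flat.rTensor_preserves_injective_linearMap (M := κ) C₀.val.toLinearMap Subtype.val_injective)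
    exact isReduced_fibre_etale A₁ C₁ E₁ κ (isReduced_fibre_baseChange k A₁ C₀ κ inferInstance)
  letI : Algebra E₁ T := (β.toRingHom.comp (σ₁.toRingEquiv.toRingHom.comp
    (Algebra.TensorProduct.includeRight : E₁ →ₐ[C₁] Ct ⊗[C₁] E₁).toRingHom)).toAlgebra
  haveI : IsScalarTower A₁ E₁ T := IsScalarTower.of_algebraMap_eq fun x => by
    show _ = β (σ₁ ((1 : Ct) ⊗ₜ algebraMap A₁ E₁ x))
    rw [IsScalarTower.algebraMap_apply A₁ C₁ E₁, ← Algebra.TensorProduct.includeRight_apply,
      AlgHom.commutes, IsScalarTower.algebraMap_apply C₁ Ct (Ct ⊗[C₁] E₁), σ₁.commutes, β.commutes,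
      ← IsScalarTower.algebraMap_apply A₁ C₁ Ct, IsScalarTower.algebraMap_apply A₁ A Ct,
      ← IsScalarTower.algebraMap_apply A Ct T, ← IsScalarTower.algebraMap_apply]
  obtain ⟨e₀, he₀⟩ := hrange
  rw [← he₀]
  refine idem_of_model A T K A₁ E₁ hred₁ ((stageMap A K β).toRingHom.comp ν) (fun x y => ?_) (hνinj ?_)
  · show stageMap A K β (ν (x ⊗ₜ y)) = _
    rw [hν, stageMap_tmul]
    rfl
  · rw [map_mul, he₀]; exact he'

end Groth.L27.Acyclic0
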