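import Groth.Agent.L27.Acyclic0.GeomRed
import Groth.Agent.L27.BigSets.FlatConn
import Groth.Agent.L07.FlatGeomReducedScheme

/-! # Strictly local schemes of flat morphisms with geometrically reduced fibres -/

universe u

open CategoryTheory CategoryTheory.Limits AlgebraicGeometry Opposite IsLocalRing TensorProduct

set_option autoImplicit false
set_option maxSynthPendingDepth 3
set_option synthInstance.maxHeartbeats 400000
set_option maxHeartbeats 1000000
set_option backward.isDefEq.respectTransparency.types false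
set_option linter.style.haveILetI false

noncomputable section

namespace Groth.L27.Acyclic0

open Groth.L27.BigSets (ShConnected)

/-- The strict henselization at a point is weakly étale over an affine neighbourhood. -/
theorem weaklyEtale_strict {X : Scheme.{u}} {U : X.Opens} (hU : IsAffineOpen U) {x : X} (hx : x ∈ U)
    (R : Type u) [CommRing R] [IsLocalRing R] [Algebra (X.presheaf.stalk x) R]
    [IsLocalHom (algebraMap (X.presheaf.stalk x) R)] [Hensel.IsStrictHenselization (X.presheaf.stalk x) R] :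
    letI : Algebra Γ(X, U) R := ((algebraMap (X.presheaf.stalk x) R).comp (X.presheaf.germ U x hx).hom).toAlgebra
    Algebra.WeaklyEtale Γ(X, U) R := by
  letI : Algebra Γ(X, U) R := ((algebraMap (X.presheaf.stalk x) R).comp (X.presheaf.germ U x hx).hom).toAlgebra
  letI : Algebra Γ(X, U) (X.presheaf.stalk x) := (X.presheaf.germ U x hx).hom.toAlgebra
  haveI : IsScalarTower Γ(X, U) (X.presheaf.stalk x) R := IsScalarTower.of_algebraMap_eq' rfl
  haveI : IsLocalization.AtPrime (X.presheaf.stalk x) (hU.primeIdealOf ⟨x, hx⟩).asIdeal :=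
    hU.isLocalization_stalk ⟨x, hx⟩
  haveI := Groth.L20.weaklyEtale_isLocalization (hU.primeIdealOf ⟨x, hx⟩).asIdeal.primeCompl (X.presheaf.stalk x)
  haveI : Algebra.WeaklyEtale (X.presheaf.stalk x) R :=
    Groth.L27.IndEtale.weaklyEtale _ _ (L05.Henselization.isIndEtale_of_isStrictHenselization _ R)
  exact Algebra.WeaklyEtale.trans Γ(X, U) (X.presheaf.stalk x) R

/-- Flat morphisms with geometrically reduced fibres have connected geometric fibres on strictly local
schemes, in the Noetherian and in the finitely presented case. -/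
theorem shConnected_of_flat_geomReduced {X Y : Scheme.{u}} (g : X ⟶ Y) [Flat g]
    (hsep : ∀ (K : Type u) [Field K] (k : Spec (CommRingCat.of K) ⟶ Y), AlgebraicGeometry.IsReduced (pullback g k))
    (h : (IsLocallyNoetherian X ∧ IsLocallyNoetherian Y) ∨ LocallyOfFinitePresentation g) :
    ShConnected g := by
  intro x RS _ _ _ _ hRS RX _ _ _ _ hRX ψ _ hψ Ω _ _ η
  haveI := hRS.henselian
  haveI := hRX.henselian
  haveI : IsSepClosed (ResidueField RS) := hRS.isSepClosure.sep_closed
  haveI : IsSepClosed (ResidueField RX) := hRX.isSepClosure.sep_closed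
  obtain ⟨V, hV, hyV, -⟩ := exists_isAffineOpen_mem_and_subset (X := Y) (x := g.base x) (U := ⊤) trivial
  obtain ⟨W, hW, hxW, e⟩ := exists_isAffineOpen_mem_and_subset (X := X) (x := x) (U := g ⁻¹ᵁ V) hyV
  replace e : W ≤ g ⁻¹ᵁ V := e
  letI := (g.appLE V W e).hom.toAlgebra
  have halg : algebraMap Γ(Y, V) Γ(X, W) = (g.appLE V W e).hom := rfl
  haveI : Module.Flat Γ(Y, V) Γ(X, W) := RingHom.flat_algebraMap_iff.mp (Flat.flat_appLE g hV hW e)
  letI : Algebra Γ(Y, V) RS :=
    ((algebraMap (Y.presheaf.stalk (g.base x)) RS).comp (Y.presheaf.germ V (g.base x) hyV).hom).toAlgebra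
  haveI : Algebra.WeaklyEtale Γ(Y, V) RS := weaklyEtale_strict hV hyV RS
  letI : Algebra Γ(X, W) RX := ((algebraMap (X.presheaf.stalk x) RX).comp (X.presheaf.germ W x hxW).hom).toAlgebra
  haveI : Algebra.WeaklyEtale Γ(X, W) RX := weaklyEtale_strict hW hxW RX
  letI : Algebra RS RX := ψ.toAlgebra
  haveI : IsLocalHom (algebraMap RS RX) := ‹IsLocalHom ψ›
  letI : Algebra Γ(Y, V) RX := ((algebraMap Γ(X, W) RX).comp (algebraMap Γ(Y, V) Γ(X, W))).toAlgebra
  haveI : IsScalarTower Γ(Y, V) Γ(X, W) RX := IsScalarTower.of_algebraMap_eq' rfl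
  haveI : IsScalarTower Γ(Y, V) RS RX := IsScalarTower.of_algebraMap_eq fun a => by
    show algebraMap (X.presheaf.stalk x) RX ((X.presheaf.germ W x hxW) (g.appLE V W e a)) =
      ψ (algebraMap (Y.presheaf.stalk (g.base x)) RS (Y.presheaf.germ V (g.base x) hyV a))
    rw [← RingHom.comp_apply ψ, hψ]
    refine congrArg (algebraMap (X.presheaf.stalk x) RX) ?_
    show ((g.appLE V W e) ≫ X.presheaf.germ W x hxW).hom a = ((Y.presheaf.germ V (g.base x) hyV) ≫ g.stalkMap x).hom a
    rw [Scheme.Hom.germ_stalkMap, Scheme.Hom.appLE, Category.assoc, X.presheaf.germ_res]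
  haveI : Module.Flat RS RX := by
    haveI : Module.Flat Γ(Y, V) RX := Module.Flat.trans Γ(Y, V) Γ(X, W) RX
    exact Groth.L20.flat_of_flat_of_flat_lmul (R := Γ(Y, V)) (T := RS) (M := RX)
      (Algebra.WeaklyEtale.flat_lmul' Γ(Y, V) RS)
  have hred : ∀ (κ : Type u) [Field κ] [Algebra Γ(Y, V) κ], _root_.IsReduced (Γ(X, W) ⊗[Γ(Y, V)] κ) := by
    intro κ _ _
    obtain ⟨c, hc, -, -⟩ := Groth.L07.FlatGeomReduced.exists_chart g hV hW e halg κ
    haveI := hc
    haveI := hsep κ (Spec.map (CommRingCat.ofHom (algebraMap Γ(Y, V) κ)) ≫ hV.fromSpec)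
    haveI := isReduced_of_isOpenImmersion c
    exact (affine_isReduced_iff _).mp ‹AlgebraicGeometry.IsReduced (Spec (CommRingCat.of (Γ(X, W) ⊗[Γ(Y, V)] κ)))›
  letI : Algebra RS Ω := (Spec.preimage η).hom.toAlgebra
  haveI hconn : ConnectedSpace (PrimeSpectrum (RX ⊗[RS] Ω)) := by
    rcases h with ⟨hX, hY⟩ | hfp
    · haveI : IsNoetherianRing Γ(Y, V) := IsLocallyNoetherian.component_noetherian ⟨V, hV⟩
      haveI : IsNoetherianRing Γ(X, W) := IsLocallyNoetherian.component_noetherian ⟨W, hW⟩
      exact connectedSpace_of_noetherian RS RX Ω Γ(Y, V) Γ(X, W) hred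
    · haveI : Algebra.FinitePresentation Γ(Y, V) Γ(X, W) :=
        RingHom.finitePresentation_algebraMap.mp (g.finitePresentation_appLE hV hW e)
      exact connectedSpace_of_finitePresentation RS RX Ω Γ(Y, V) Γ(X, W) hred
  have hη : η = Spec.map (CommRingCat.ofHom (algebraMap RS Ω)) := (Spec.map_preimage η).symm
  rw [hη]
  let i : pullback (Spec.map (CommRingCat.ofHom ψ)) (Spec.map (CommRingCat.ofHom (algebraMap RS Ω))) ≅
      Spec (CommRingCat.of (RX ⊗[RS] Ω)) := pullbackSpecIso RS RX Ω
  haveI : ConnectedSpace ↥(Spec (CommRingCat.of (RX ⊗[RS] Ω))) := hconn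
  exact i.inv.homeomorph.surjective.connectedSpace i.inv.continuous

end Groth.L27.Acyclic0
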