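import Groth.Agent.L27.Acyclic0.ShConn
import Mathlib.AlgebraicGeometry.Morphisms.Etale

/-! # Connected geometric fibres of strictly local schemes after base change -/

universe u

open CategoryTheory CategoryTheory.Limits AlgebraicGeometry Opposite IsLocalRing TensorProduct

set_option autoImplicit false
set_option maxSynthPendingDepth 3
set_option synthInstance.maxHeartbeats 400000
set_option maxHeartbeats 1000000
set_option backward.isDefEq.respectTransparency.types false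
set_option linter.style.haveILetI false

noncomputable section

namespace Groth.L27.Acyclic0

open Groth.L27.BigSets (ShConnected)

variable (RS RX K : Type u) [CommRing RS] [HenselianLocalRing RS] [IsSepClosed (ResidueField RS)]
  [CommRing RX] [HenselianLocalRing RX] [IsSepClosed (ResidueField RX)] [Algebra RS RX]
  [IsLocalHom (algebraMap RS RX)] [Field K] [Algebra RS K]

/-- The Noetherian case after an arbitrary base change. -/
theorem connectedSpace_of_noetherian_baseChange (A B A₁ : Type u) [CommRing A] [IsNoetherianRing A]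
    [CommRing B] [IsNoetherianRing B] [CommRing A₁] [Algebra A B] [Module.Flat A B]
    (hred : ∀ (κ : Type u) [Field κ] [Algebra A κ], _root_.IsReduced (B ⊗[A] κ))
    [Algebra A A₁] [Algebra A₁ RS] [Algebra A RS] [IsScalarTower A A₁ RS] [Algebra.WeaklyEtale A₁ RS]
    [Algebra (A₁ ⊗[A] B) RX] [Algebra.WeaklyEtale (A₁ ⊗[A] B) RX]
    (hcomp : ∀ a : A₁, algebraMap (A₁ ⊗[A] B) RX (a ⊗ₜ 1) = algebraMap RS RX (algebraMap A₁ RS a)) :
    ConnectedSpace (PrimeSpectrum (RX ⊗[RS] K)) := by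
  letI : Algebra A RX := ((algebraMap RS RX).comp (algebraMap A RS)).toAlgebra
  haveI : IsScalarTower A RS RX := IsScalarTower.of_algebraMap_eq' rfl
  let bX : B →ₐ[A] RX :=
    { (algebraMap (A₁ ⊗[A] B) RX).comp
        (Algebra.TensorProduct.includeRight : B →ₐ[A] A₁ ⊗[A] B).toRingHom with
      commutes' := fun a => by
        show algebraMap (A₁ ⊗[A] B) RX ((Algebra.TensorProduct.includeRight : B →ₐ[A] A₁ ⊗[A] B)
          (algebraMap A B a)) = _
        rw [AlgHom.commutes, Algebra.TensorProduct.algebraMap_apply, hcomp,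
          ← IsScalarTower.algebraMap_apply A A₁ RS]
        rfl }
  letI : Algebra (RS ⊗[A] B) RX := (Algebra.TensorProduct.lift (IsScalarTower.toAlgHom RS RS RX)
    bX (fun _ _ => Commute.all _ _)).toRingHom.toAlgebra
  haveI : IsScalarTower RS (RS ⊗[A] B) RX := IsScalarTower.of_algebraMap_eq fun a => by
    show _ = Algebra.TensorProduct.lift _ _ _ (a ⊗ₜ (1 : B))
    simp
  let m : A₁ ⊗[A] B →ₐ[A₁] RS ⊗[A] B := Algebra.TensorProduct.map (Algebra.ofId A₁ RS) (AlgHom.id A B)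
  letI : Algebra (A₁ ⊗[A] B) (RS ⊗[A] B) := m.toRingHom.toAlgebra
  haveI : IsScalarTower A₁ (A₁ ⊗[A] B) (RS ⊗[A] B) :=
    IsScalarTower.of_algebraMap_eq fun a => (m.commutes a).symm
  haveI : Algebra.WeaklyEtale (A₁ ⊗[A] B) (RS ⊗[A] B) :=
    weaklyEtale_tensor_left A A₁ RS B (RingHom.ext fun c => by
      show m ((1 : A₁) ⊗ₜ c) = (1 : RS) ⊗ₜ c
      simp [m])
  haveI : IsScalarTower (A₁ ⊗[A] B) (RS ⊗[A] B) RX := IsScalarTower.of_algebraMap_eq' <| by
    refine RingHom.ext fun z => ?_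
    induction z using TensorProduct.induction_on with
    | zero => simp
    | add x y hx hy => rw [map_add, map_add, hx, hy]
    | tmul a b =>
      show algebraMap (A₁ ⊗[A] B) RX (a ⊗ₜ b) = Algebra.TensorProduct.lift (IsScalarTower.toAlgHom RS RS RX)
        bX (fun _ _ => Commute.all _ _) (m (a ⊗ₜ b))
      simp only [m, Algebra.TensorProduct.map_tmul, Algebra.TensorProduct.lift_tmul]
      show _ = algebraMap RS RX (algebraMap A₁ RS a) * algebraMap (A₁ ⊗[A] B) RX ((1 : A₁) ⊗ₜ b)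
      rw [← hcomp, ← map_mul, Algebra.TensorProduct.tmul_mul_tmul, mul_one, one_mul]
  haveI : Algebra.WeaklyEtale (RS ⊗[A] B) RX := by
    obtain ⟨h1, h2⟩ := Groth.L20.TorAmp.weaklyEtale_cancel (A₁ ⊗[A] B) (RS ⊗[A] B) RX
    exact ⟨h1, h2⟩
  haveI : Module.Flat RS RX := Module.Flat.trans RS (RS ⊗[A] B) RX
  exact connectedSpace_of_weaklyEtale RS RX K A B hred

open Groth.L07.FlatGeomReduced in
/-- Base changes of flat morphisms of locally Noetherian schemes with geometrically reduced fibres. -/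
theorem shConnected_baseChange_of_noetherian {X Y X₁ Y₁ : Scheme.{u}} (g : X ⟶ Y) [Flat g]
    [IsLocallyNoetherian X] [IsLocallyNoetherian Y]
    (hsep : ∀ (K : Type u) [Field K] (k : Spec (CommRingCat.of K) ⟶ Y), AlgebraicGeometry.IsReduced (pullback g k))
    (g₁ : X₁ ⟶ Y₁) (b' : X₁ ⟶ X) (b : Y₁ ⟶ Y) (h : IsPullback b' g₁ g b) : ShConnected g₁ := by
  intro x RS _ _ _ _ hRS RX _ _ _ _ hRX ψ _ hψ Ω _ _ η
  haveI := hRS.henselian
  haveI := hRX.henselian
  haveI : IsSepClosed (ResidueField RS) := hRS.isSepClosure.sep_closed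
  haveI : IsSepClosed (ResidueField RX) := hRX.isSepClosure.sep_closed
  obtain ⟨V, hV, hyV, -⟩ := exists_isAffineOpen_mem_and_subset (X := Y) (x := g.base (b'.base x)) (U := ⊤) trivial
  obtain ⟨W, hW, hxW, e⟩ := exists_isAffineOpen_mem_and_subset (X := X) (x := b'.base x) (U := g ⁻¹ᵁ V) hyV
  replace e : W ≤ g ⁻¹ᵁ V := e
  have hb : b.base (g₁.base x) = g.base (b'.base x) := by
    rw [← Scheme.Hom.comp_apply, ← Scheme.Hom.comp_apply, h.w]
  obtain ⟨V₁, hV₁, hyV₁, e₁⟩ := exists_isAffineOpen_mem_and_subset (X := Y₁) (x := g₁.base x) (U := b ⁻¹ᵁ V)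
    (show b.base (g₁.base x) ∈ V from hb.symm ▸ hyV)
  replace e₁ : V₁ ≤ b ⁻¹ᵁ V := e₁
  obtain ⟨W₁, hW₁, hxW₁, eW⟩ := exists_isAffineOpen_mem_and_subset (X := X₁) (x := x)
    (U := g₁ ⁻¹ᵁ V₁ ⊓ b' ⁻¹ᵁ W) ⟨hyV₁, hxW⟩
  have eg : W₁ ≤ g₁ ⁻¹ᵁ V₁ := fun z hz => (eW hz).1
  have eb : W₁ ≤ b' ⁻¹ᵁ W := fun z hz => (eW hz).2
  let A := Γ(Y, V)
  let B := Γ(X, W)
  let A₁ := Γ(Y₁, V₁)
  let D := Γ(X₁, W₁)
  letI : Algebra A B := (g.appLE V W e).hom.toAlgebra
  have halg : algebraMap Γ(Y, V) Γ(X, W) = (g.appLE V W e).hom := rfl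
  haveI : Module.Flat A B := RingHom.flat_algebraMap_iff.mp (Flat.flat_appLE g hV hW e)
  haveI : IsNoetherianRing A := IsLocallyNoetherian.component_noetherian ⟨V, hV⟩
  haveI : IsNoetherianRing B := IsLocallyNoetherian.component_noetherian ⟨W, hW⟩
  letI : Algebra A A₁ := (b.appLE V V₁ e₁).hom.toAlgebra
  letI : Algebra A D := ((g₁.appLE V₁ W₁ eg).hom.comp (algebraMap A A₁)).toAlgebra
  have hsq : g.appLE V W e ≫ b'.appLE W W₁ eb = b.appLE V V₁ e₁ ≫ g₁.appLE V₁ W₁ eg := by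
    apply Spec.map_injective
    rw [Spec.map_comp, Spec.map_comp, ← cancel_mono hV.fromSpec, Category.assoc, Category.assoc,
      IsAffineOpen.SpecMap_appLE_fromSpec g hV hW e, IsAffineOpen.SpecMap_appLE_fromSpec b hV hV₁ e₁,
      IsAffineOpen.SpecMap_appLE_fromSpec_assoc b' hW hW₁ eb,
      IsAffineOpen.SpecMap_appLE_fromSpec_assoc g₁ hV₁ hW₁ eg, h.w]
  let θ : B ⊗[A] A₁ →ₐ[A] D := Algebra.TensorProduct.lift
    { (b'.appLE W W₁ eb).hom with
      commutes' := fun a => DFunLike.congr_fun (congrArg CommRingCat.Hom.hom hsq) a }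
    { (g₁.appLE V₁ W₁ eg).hom with commutes' := fun a => rfl } (fun _ _ => Commute.all _ _)
  -- the chart of the base change
  obtain ⟨c, hc, hc1, hc2⟩ := exists_chart g hV hW e halg A₁
  haveI := hc
  let k : Spec (CommRingCat.of A₁) ⟶ Y := Spec.map (CommRingCat.ofHom (algebraMap A A₁)) ≫ hV.fromSpec
  have hk : k = hV₁.fromSpec ≫ b := IsAffineOpen.SpecMap_appLE_fromSpec b hV hV₁ e₁
  let j : pullback g k ⟶ X₁ := h.lift (pullback.fst g k) (pullback.snd g k ≫ hV₁.fromSpec)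
    (by rw [pullback.condition, hk, Category.assoc])
  haveI : IsOpenImmersion j := by
    have hj : IsPullback j (pullback.snd g k) g₁ hV₁.fromSpec := by
      refine IsPullback.of_right ?_ (h.lift_snd _ _ _) h
      rw [h.lift_fst, ← hk]
      exact IsPullback.of_hasPullback g k
    exact MorphismProperty.of_isPullback (P := @IsOpenImmersion) hj.flip inferInstance
  have hm : Spec.map (CommRingCat.ofHom θ.toRingHom) ≫ c ≫ j = hW₁.fromSpec := by
    refine h.hom_ext ?_ ?_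
    · rw [Category.assoc, Category.assoc, h.lift_fst, hc1, ← Spec.map_comp_assoc,
        ← IsAffineOpen.SpecMap_appLE_fromSpec b' hW hW₁ eb]
      refine congrArg (fun q => Spec.map q ≫ hW.fromSpec) (CommRingCat.hom_ext (RingHom.ext fun z => ?_))
      show θ (z ⊗ₜ (1 : A₁)) = _
      rw [Algebra.TensorProduct.lift_tmul, map_one, mul_one]
      rfl
    · rw [Category.assoc, Category.assoc, h.lift_snd, reassoc_of% hc2, ← Spec.map_comp_assoc,
        ← IsAffineOpen.SpecMap_appLE_fromSpec g₁ hV₁ hW₁ eg]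
      refine congrArg (fun q => Spec.map q ≫ hV₁.fromSpec) (CommRingCat.hom_ext (RingHom.ext fun z => ?_))
      show θ ((1 : B) ⊗ₜ z) = _
      rw [Algebra.TensorProduct.lift_tmul, map_one, one_mul]
      rfl
  letI : Algebra (B ⊗[A] A₁) D := θ.toRingHom.toAlgebra
  haveI : Algebra.Etale (B ⊗[A] A₁) D := by
    haveI : IsOpenImmersion (Spec.map (CommRingCat.ofHom θ.toRingHom) ≫ c ≫ j) := hm.symm ▸ inferInstance
    haveI : IsOpenImmersion (Spec.map (CommRingCat.ofHom θ.toRingHom)) := IsOpenImmersion.of_comp _ (c ≫ j)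
    exact RingHom.etale_algebraMap.mp ((HasRingHomProperty.Spec_iff (P := @AlgebraicGeometry.Etale)).mp
      (inferInstance : AlgebraicGeometry.Etale (Spec.map (CommRingCat.ofHom θ.toRingHom))))
  letI : Algebra A₁ RS :=
    ((algebraMap (Y₁.presheaf.stalk (g₁.base x)) RS).comp (Y₁.presheaf.germ V₁ (g₁.base x) hyV₁).hom).toAlgebra
  haveI : Algebra.WeaklyEtale A₁ RS := weaklyEtale_strict hV₁ hyV₁ RS
  letI : Algebra A RS := ((algebraMap A₁ RS).comp (algebraMap A A₁)).toAlgebra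
  haveI : IsScalarTower A A₁ RS := IsScalarTower.of_algebraMap_eq' rfl
  letI : Algebra D RX := ((algebraMap (X₁.presheaf.stalk x) RX).comp (X₁.presheaf.germ W₁ x hxW₁).hom).toAlgebra
  haveI : Algebra.WeaklyEtale D RX := weaklyEtale_strict hW₁ hxW₁ RX
  letI : Algebra RS RX := ψ.toAlgebra
  haveI : IsLocalHom (algebraMap RS RX) := ‹IsLocalHom ψ›
  let σ : A₁ ⊗[A] B ≃ₐ[A] B ⊗[A] A₁ := Algebra.TensorProduct.comm A A₁ B
  letI : Algebra (A₁ ⊗[A] B) (B ⊗[A] A₁) := σ.toRingEquiv.toRingHom.toAlgebra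
  haveI : Algebra.Etale (A₁ ⊗[A] B) (B ⊗[A] A₁) :=
    RingHom.etale_algebraMap.mp (RingHom.Etale.of_bijective σ.bijective)
  letI : Algebra (A₁ ⊗[A] B) D := ((algebraMap (B ⊗[A] A₁) D).comp (algebraMap (A₁ ⊗[A] B) (B ⊗[A] A₁))).toAlgebra
  haveI : IsScalarTower (A₁ ⊗[A] B) (B ⊗[A] A₁) D := IsScalarTower.of_algebraMap_eq' rfl
  haveI : Algebra.Etale (A₁ ⊗[A] B) D := Algebra.Etale.comp (A₁ ⊗[A] B) (B ⊗[A] A₁) D
  letI : Algebra (A₁ ⊗[A] B) RX := ((algebraMap D RX).comp (algebraMap (A₁ ⊗[A] B) D)).toAlgebra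
  haveI : IsScalarTower (A₁ ⊗[A] B) D RX := IsScalarTower.of_algebraMap_eq' rfl
  haveI : Algebra.WeaklyEtale (A₁ ⊗[A] B) RX := Algebra.WeaklyEtale.trans (A₁ ⊗[A] B) D RX
  have hcomp : ∀ a : A₁, algebraMap (A₁ ⊗[A] B) RX (a ⊗ₜ 1) = algebraMap RS RX (algebraMap A₁ RS a) := fun a => by
    show algebraMap (X₁.presheaf.stalk x) RX (X₁.presheaf.germ W₁ x hxW₁ (θ ((1 : B) ⊗ₜ a))) =
      ψ (algebraMap (Y₁.presheaf.stalk (g₁.base x)) RS (Y₁.presheaf.germ V₁ (g₁.base x) hyV₁ a))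
    rw [← RingHom.comp_apply ψ, hψ, Algebra.TensorProduct.lift_tmul, map_one, one_mul]
    refine congrArg (algebraMap (X₁.presheaf.stalk x) RX) ?_
    show ((g₁.appLE V₁ W₁ eg) ≫ X₁.presheaf.germ W₁ x hxW₁).hom a =
      ((Y₁.presheaf.germ V₁ (g₁.base x) hyV₁) ≫ g₁.stalkMap x).hom a
    rw [Scheme.Hom.germ_stalkMap, Scheme.Hom.appLE, Category.assoc, X₁.presheaf.germ_res]
  have hred : ∀ (κ : Type u) [Field κ] [Algebra A κ], _root_.IsReduced (B ⊗[A] κ) := by
    intro κ _ _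
    obtain ⟨c, hc, -, -⟩ := exists_chart g hV hW e halg κ
    haveI := hc
    haveI := hsep κ (Spec.map (CommRingCat.ofHom (algebraMap Γ(Y, V) κ)) ≫ hV.fromSpec)
    haveI := isReduced_of_isOpenImmersion c
    exact (affine_isReduced_iff _).mp ‹AlgebraicGeometry.IsReduced (Spec (CommRingCat.of (Γ(X, W) ⊗[Γ(Y, V)] κ)))›
  letI : Algebra RS Ω := (Spec.preimage η).hom.toAlgebra
  haveI hconn : ConnectedSpace (PrimeSpectrum (RX ⊗[RS] Ω)) :=
    connectedSpace_of_noetherian_baseChange RS RX Ω A B A₁ hred hcomp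
  have hη : η = Spec.map (CommRingCat.ofHom (algebraMap RS Ω)) := (Spec.map_preimage η).symm
  rw [hη]
  let i : pullback (Spec.map (CommRingCat.ofHom ψ)) (Spec.map (CommRingCat.ofHom (algebraMap RS Ω))) ≅
      Spec (CommRingCat.of (RX ⊗[RS] Ω)) := pullbackSpecIso RS RX Ω
  haveI : ConnectedSpace ↥(Spec (CommRingCat.of (RX ⊗[RS] Ω))) := hconn
  exact i.inv.homeomorph.surjective.connectedSpace i.inv.continuous

end Groth.L27.Acyclic0
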