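import Groth.Agent.L05.Henselization.FibreConnected
import Groth.Agent.L05.Henselization.Noeth
import Groth.Agent.L20.StrictHensWE
import Groth.Agent.L20.WeaklyEtaleStalk
import Mathlib.RingTheory.Spectrum.Prime.Topology

/-! # Connected fibres of maps of strictly henselian rings with Noetherian models -/

universe u

open IsLocalRing TensorProduct AlgebraicGeometry

set_option autoImplicit false
set_option linter.style.haveILetI false

namespace Groth.L27.Acyclic0

/-- A separable element of an extension lies in the image of any separably closed subextension. -/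
theorem mem_range_of_isSeparable {k M L : Type u} [Field k] [Field M] [Field L] [Algebra k M]
    [Algebra k L] [IsSepClosed M] (τ : M →ₐ[k] L) {x : L} (hx : IsSeparable k x) :
    x ∈ Set.range τ := by
  have hint : IsIntegral k x := hx.isIntegral
  have hs : ((minpoly k x).map (algebraMap k M)).Splits :=
    IsSepClosed.splits_codomain _ hx
  have hroot : Polynomial.eval x (((minpoly k x).map (algebraMap k M)).map τ.toRingHom) = 0 := by
    rw [Polynomial.map_map, AlgHom.toRingHom_eq_coe, AlgHom.comp_algebraMap, Polynomial.eval_map]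
    exact minpoly.aeval k x
  exact hs.mem_range_of_isRoot (Polynomial.map_ne_zero (minpoly.ne_zero hint)) hroot

/-- Idempotents of a ring with connected spectrum are trivial. -/
theorem idem_of_connectedSpace {R : Type u} [CommRing R] [ConnectedSpace (PrimeSpectrum R)] {e : R}
    (he : IsIdempotentElem e) : e = 0 ∨ e = 1 := by
  rcases isClopen_iff.1 (PrimeSpectrum.isClopen_iff.2 ⟨e, he, rfl⟩) with h | h
  · left
    obtain ⟨n, hn⟩ := PrimeSpectrum.basicOpen_eq_bot_iff e |>.1 (TopologicalSpace.Opens.ext h)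
    rcases n with _ | n
    · exact (mul_one e).symm.trans (by rw [show (1 : R) = 0 by simpa using hn, mul_zero])
    · rwa [he.pow_succ_eq] at hn
  · right
    refine (IsIdempotentElem.iff_eq_one_of_isUnit ?_).1 he
    by_contra hu
    obtain ⟨m, hm, hem⟩ := exists_max_ideal_of_mem_nonunits (mem_nonunits_iff.2 hu)
    have hmem : (⟨m, hm.isPrime⟩ : PrimeSpectrum R) ∈ (PrimeSpectrum.basicOpen e : Set (PrimeSpectrum R)) :=
      h.symm ▸ Set.mem_univ _
    exact hmem hem

/-- Weakly étale algebras are preserved by isomorphisms. -/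
theorem weaklyEtale_of_equiv {R S S' : Type u} [CommRing R] [CommRing S] [CommRing S'] [Algebra R S]
    [Algebra R S'] (e : S ≃ₐ[R] S') [Algebra.WeaklyEtale R S] : Algebra.WeaklyEtale R S' := by
  letI : Algebra S S' := e.toAlgHom.toRingHom.toAlgebra
  haveI : IsScalarTower R S S' := IsScalarTower.of_algebraMap_eq fun r => (e.commutes r).symm
  haveI : Algebra.Etale S S' :=
    RingHom.etale_algebraMap.mp (RingHom.Etale.of_bijective e.bijective)
  exact Algebra.WeaklyEtale.trans R S S'

/-- Fibres of strict henselizations of an algebra with reduced fibre are reduced. -/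
theorem isReduced_tensor_strict (A₀ C₀ A₁ T₁ κ : Type u) [CommRing A₀] [CommRing C₀] [CommRing A₁]
    [CommRing T₁] [Field κ] [Algebra A₀ C₀] [Algebra A₀ A₁] [Algebra C₀ T₁] [Algebra A₁ T₁]
    [Algebra A₀ T₁] [IsScalarTower A₀ C₀ T₁] [IsScalarTower A₀ A₁ T₁]
    [Algebra A₀ κ] [Algebra A₁ κ] [IsScalarTower A₀ A₁ κ]
    [Algebra.WeaklyEtale A₀ A₁] [Algebra.WeaklyEtale C₀ T₁]
    (h : _root_.IsReduced (C₀ ⊗[A₀] κ)) : _root_.IsReduced (T₁ ⊗[A₁] κ) := by
  let C₁ := A₁ ⊗[A₀] C₀
  letI : Algebra C₁ T₁ := (Algebra.TensorProduct.lift (IsScalarTower.toAlgHom A₁ A₁ T₁)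
    (IsScalarTower.toAlgHom A₀ C₀ T₁) (fun _ _ => Commute.all _ _)).toRingHom.toAlgebra
  haveI : IsScalarTower A₁ C₁ T₁ := IsScalarTower.of_algebraMap_eq fun a => by
    show _ = Algebra.TensorProduct.lift _ _ _ (a ⊗ₜ (1 : C₀))
    simp
  haveI : Algebra.WeaklyEtale C₁ T₁ := by
    letI : Algebra C₀ C₁ := Algebra.TensorProduct.rightAlgebra
    haveI : IsScalarTower C₀ C₁ T₁ := IsScalarTower.of_algebraMap_eq fun c => by
      show _ = Algebra.TensorProduct.lift _ _ _ ((1 : A₁) ⊗ₜ c)
      simp
    haveI : Algebra.WeaklyEtale C₀ C₁ := by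
      let e : C₀ ⊗[A₀] A₁ ≃ₐ[C₀] C₁ :=
        { (Algebra.TensorProduct.comm A₀ C₀ A₁).toRingEquiv with commutes' := fun c => rfl }
      exact weaklyEtale_of_equiv e
    obtain ⟨h1, h2⟩ := Groth.L20.TorAmp.weaklyEtale_cancel C₀ C₁ T₁
    exact ⟨h1, h2⟩
  let D := C₁ ⊗[A₁] κ
  haveI : _root_.IsReduced D := by
    let e : D ≃+* C₀ ⊗[A₀] κ := ((Algebra.TensorProduct.comm A₁ C₁ κ).toRingEquiv.trans
      (Algebra.TensorProduct.cancelBaseChange A₀ A₁ A₁ κ C₀).toRingEquiv).trans
      (Algebra.TensorProduct.comm A₀ κ C₀).toRingEquiv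
    exact isReduced_of_injective e.toRingHom e.injective
  haveI h' := Groth.L20.isReduced_of_weaklyEtale D (D ⊗[C₁] T₁)
  let e : T₁ ⊗[A₁] κ ≃+* D ⊗[C₁] T₁ :=
    ((Algebra.TensorProduct.comm C₁ D T₁).toRingEquiv.trans
      (Algebra.TensorProduct.cancelBaseChange A₁ C₁ C₁ T₁ κ).toRingEquiv).symm
  haveI := h'
  exact @isReduced_of_injective _ (D ⊗[C₁] T₁) _ _ _ _ _ e e.injective h' 

/-- The hypothesis on integral domains used for connectedness of fibres. -/
theorem isLocalRing_tensor_integral (A B : Type u) [CommRing A] [HenselianLocalRing A]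
    [IsSepClosed (ResidueField A)] [CommRing B] [IsLocalRing B] [Algebra A B] [IsLocalHom (algebraMap A B)] [Module.Flat A B]
    (N : Type u) [CommRing N] [IsDomain N] [IsLocalRing N] [Algebra A N] [Algebra.IsIntegral A N] :
    IsLocalRing (N ⊗[A] B) := by
  refine L05.Henselization.Branches.isLocalRing_tensor_of_pi A B N fun x => ?_
  haveI : IsLocalHom (algebraMap A N) := ((IsLocalRing.local_hom_TFAE _).out 0 4 rfl rfl).mpr
    (eq_maximalIdeal (Ideal.isMaximal_comap_of_isIntegral_of_isMaximal (maximalIdeal N)))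
  let k := ResidueField A
  let kN := ResidueField N
  haveI : Algebra.IsAlgebraic k kN := by
    haveI : IsScalarTower A k kN := IsScalarTower.of_algebraMap_eq fun r => rfl
    haveI : Algebra.IsIntegral A kN := ⟨fun z => by
      obtain ⟨a, rfl⟩ := Ideal.Quotient.mk_surjective z
      exact (Algebra.IsIntegral.isIntegral (R := A) a).map (IsScalarTower.toAlgHom A N kN)⟩
    haveI : Algebra.IsIntegral k kN := Algebra.IsIntegral.tower_top (R := A)
    infer_instance
  haveI := Groth.L05.isPurelyInseparable_of_isSepClosed_base k kN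
  haveI : ExpChar k (ringExpChar kN) :=
    RingHom.expChar (algebraMap k kN) (algebraMap k kN).injective (ringExpChar kN)
  obtain ⟨n, y, hy⟩ := IsPurelyInseparable.pow_mem k (ringExpChar kN) x
  obtain ⟨r, rfl⟩ := residue_surjective y
  exact ⟨n, r, hy⟩

section Models

variable (A T K : Type u) [CommRing A] [HenselianLocalRing A] [IsSepClosed (ResidueField A)]
  [CommRing T] [HenselianLocalRing T] [IsSepClosed (ResidueField T)] [Algebra A T]
  [IsLocalHom (algebraMap A T)] [Field K] [Algebra A K]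

/-- Idempotents defined at a Noetherian model are trivial. -/
theorem idem_of_model (A₀ C₀ : Type u) [CommRing A₀] [IsNoetherianRing A₀] [CommRing C₀]
    [IsNoetherianRing C₀] [Algebra A₀ A] [Algebra A₀ C₀] [Algebra C₀ T] [Algebra A₀ T]
    [IsScalarTower A₀ A T] [IsScalarTower A₀ C₀ T] [Algebra A₀ K] [IsScalarTower A₀ A K]
    [Module.Flat A₀ C₀]
    (hred : ∀ (κ : Type u) [Field κ] [Algebra A₀ κ], _root_.IsReduced (C₀ ⊗[A₀] κ))
    (μ : C₀ ⊗[A₀] K →+* T ⊗[A] K) (hμ : ∀ (c : C₀) (k : K), μ (c ⊗ₜ k) = algebraMap C₀ T c ⊗ₜ k)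
    {e₀ : C₀ ⊗[A₀] K} (he₀ : IsIdempotentElem e₀) : μ e₀ = 0 ∨ μ e₀ = 1 := by
  let p : Ideal A₀ := (maximalIdeal A).comap (algebraMap A₀ A)
  let q : Ideal C₀ := (maximalIdeal T).comap (algebraMap C₀ T)
  let O := Localization.AtPrime p
  let P := Localization.AtPrime q
  have hpq : p = q.comap (algebraMap A₀ C₀) := by
    show p = ((maximalIdeal T).comap (algebraMap C₀ T)).comap (algebraMap A₀ C₀)
    rw [Ideal.comap_comap, ← IsScalarTower.algebraMap_eq, IsScalarTower.algebraMap_eq A₀ A T,
      ← Ideal.comap_comap, ((IsLocalRing.local_hom_TFAE _).out 0 4 rfl rfl).mp ‹IsLocalHom (algebraMap A T)›]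
  let g : O →+* P := Localization.localRingHom p q (algebraMap A₀ C₀) hpq
  have hu : ∀ a : p.primeCompl, IsUnit (algebraMap A₀ A a) := fun a =>
    Classical.not_not.1 fun h => a.2 ((mem_maximalIdeal _).2 h)
  let fA : O →+* A := IsLocalization.lift hu
  have hv : ∀ c : q.primeCompl, IsUnit (algebraMap C₀ T c) := fun c =>
    Classical.not_not.1 fun h => c.2 ((mem_maximalIdeal _).2 h)
  let fT : P →+* T := IsLocalization.lift hv
  have hfA : ∀ a : A₀, fA (algebraMap A₀ O a) = algebraMap A₀ A a := IsLocalization.lift_eq hu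
  have hfT : ∀ c : C₀, fT (algebraMap C₀ P c) = algebraMap C₀ T c := IsLocalization.lift_eq hv
  haveI : IsLocalHom fA := ⟨fun x hx => by
    obtain ⟨a, s, rfl⟩ := IsLocalization.exists_mk'_eq p.primeCompl x
    rw [IsLocalization.AtPrime.isUnit_mk'_iff O p]
    intro ha
    apply (mem_maximalIdeal _).1 ha
    have h1 := congrArg fA (IsLocalization.mk'_spec O a s)
    rw [map_mul, hfA, hfA] at h1
    exact h1 ▸ hx.mul (hu s)⟩
  haveI : IsLocalHom fT := ⟨fun x hx => by
    obtain ⟨c, s, rfl⟩ := IsLocalization.exists_mk'_eq q.primeCompl x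
    rw [IsLocalization.AtPrime.isUnit_mk'_iff P q]
    intro hc
    apply (mem_maximalIdeal _).1 hc
    have h1 := congrArg fT (IsLocalization.mk'_spec P c s)
    rw [map_mul, hfT, hfT] at h1
    exact h1 ▸ hx.mul (hv s)⟩
  have hsq : fT.comp g = (algebraMap A T).comp fA := by
    refine IsLocalization.ringHom_ext p.primeCompl (RingHom.ext fun a => ?_)
    show fT (g (algebraMap A₀ O a)) = algebraMap A T (fA (algebraMap A₀ O a))
    rw [Localization.localRingHom_to_map, hfT, hfA, ← IsScalarTower.algebraMap_apply,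
      ← IsScalarTower.algebraMap_apply]
  haveI : IsNoetherianRing O := IsLocalization.isNoetherianRing p.primeCompl _ inferInstance
  haveI : IsNoetherianRing P := IsLocalization.isNoetherianRing q.primeCompl _ inferInstance
  obtain ⟨A₁, _, _, _, _, hA₁⟩ := L05.Henselization.exists_isStrictHenselization O
  obtain ⟨T₁, _, _, _, _, hT₁⟩ := L05.Henselization.exists_isStrictHenselization P
  haveI := hA₁.henselian
  haveI := hT₁.henselian
  haveI : IsSepClosed (ResidueField A₁) := hA₁.isSepClosure.sep_closed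
  haveI : IsSepClosed (ResidueField T₁) := hT₁.isSepClosure.sep_closed
  haveI : Algebra.IsSeparable (ResidueField O) (ResidueField A₁) := hA₁.isSepClosure.separable
  haveI : Algebra.IsSeparable (ResidueField P) (ResidueField T₁) := hT₁.isSepClosure.separable
  haveI : IsNoetherianRing A₁ := (L05.Henselization.isNoetherianRing_iff_strict O A₁).mp (by assumption)
  haveI : IsNoetherianRing T₁ := (L05.Henselization.isNoetherianRing_iff_strict P T₁).mp (by assumption)
  letI : Algebra (ResidueField O) (ResidueField A) := (ResidueField.map fA).toAlgebra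
  letI : Algebra (ResidueField P) (ResidueField T) := (ResidueField.map fT).toAlgebra
  let τA : ResidueField A₁ →ₐ[ResidueField O] ResidueField A := IsSepClosed.lift
  let τT : ResidueField T₁ →ₐ[ResidueField P] ResidueField T := IsSepClosed.lift
  let θ : ResidueField A₁ →+* ResidueField T := (ResidueField.map (algebraMap A T)).comp τA.toRingHom
  letI : Algebra (ResidueField O) (ResidueField P) := (ResidueField.map g).toAlgebra
  letI : Algebra (ResidueField O) (ResidueField T) :=
    ((algebraMap (ResidueField P) (ResidueField T)).comp (algebraMap (ResidueField O) (ResidueField P))).toAlgebra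
  haveI : IsScalarTower (ResidueField O) (ResidueField P) (ResidueField T) := IsScalarTower.of_algebraMap_eq' rfl
  have hθ : θ.comp (algebraMap (ResidueField O) (ResidueField A₁)) =
      algebraMap (ResidueField O) (ResidueField T) := by
    refine RingHom.ext fun x => ?_
    obtain ⟨x, rfl⟩ := residue_surjective x
    show ResidueField.map (algebraMap A T) (τA (algebraMap _ _ (residue O x))) = _
    rw [τA.commutes]
    exact congrArg (residue T) (DFunLike.congr_fun hsq x).symm
  let θa : ResidueField A₁ →ₐ[ResidueField O] ResidueField T :=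
    { θ with commutes' := DFunLike.congr_fun hθ }
  have hmem : ∀ x, ∃ y, τT y = θ x := fun x => mem_range_of_isSeparable τT
    (IsSeparable.tower_top (ResidueField P) ((Algebra.IsSeparable.isSeparable (ResidueField O) x).map (f := θa)
      θa.toRingHom.injective))
  choose σ₀ hσ₀ using hmem
  let σ : ResidueField A₁ →+* ResidueField T₁ :=
    { toFun := σ₀
      map_one' := τT.toRingHom.injective (by simp [hσ₀])
      map_mul' := fun a b => τT.toRingHom.injective (by simp [hσ₀])
      map_zero' := τT.toRingHom.injective (by simp [hσ₀])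
      map_add' := fun a b => τT.toRingHom.injective (by simp [hσ₀]) }
  let f₁ : O →+* T₁ := (algebraMap P T₁).comp g
  haveI : IsLocalHom f₁ := RingHom.isLocalHom_comp _ _
  obtain ⟨ψ, ⟨hψ, hψr⟩, -⟩ := hA₁.universal T₁ f₁ σ (RingHom.ext fun x => τT.toRingHom.injective (by
    obtain ⟨x, rfl⟩ := residue_surjective x
    show τT (σ₀ (algebraMap _ _ (residue O x))) = τT (residue T₁ (algebraMap P T₁ (g x)))
    rw [hσ₀, show θ _ = _ from DFunLike.congr_fun hθ (residue O x)]
    exact (τT.commutes (residue P (g x))).symm))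
  obtain ⟨uA, ⟨huA, huAr⟩, -⟩ := hA₁.universal A fA τA.toRingHom τA.comp_algebraMap
  obtain ⟨uT, ⟨huT, huTr⟩, -⟩ := hT₁.universal T fT τT.toRingHom τT.comp_algebraMap
  have hloc : ∀ {R S : Type u} [CommRing R] [IsLocalRing R] [CommRing S] [IsLocalRing S] (v : R →+* S)
      (ρ : ResidueField R →+* ResidueField S), (∀ x, residue S (v x) = ρ (residue R x)) → IsLocalHom v :=
    fun v ρ hv => ⟨fun x hx => by
      by_contra h
      have h2 := hv x
      rw [(residue_eq_zero_iff x).mpr ((mem_maximalIdeal x).mpr h), map_zero, residue_eq_zero_iff] at h2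
      exact (mem_maximalIdeal _).mp h2 hx⟩
  have hcompat : uT.comp ψ = (algebraMap A T).comp uA := by
    haveI : IsLocalHom ((algebraMap A T).comp fA) := RingHom.isLocalHom_comp _ _
    refine (hA₁.universal T ((algebraMap A T).comp fA) θ (RingHom.ext fun x => ?_)).unique ⟨?_, fun x => ?_⟩
      ⟨by rw [RingHom.comp_assoc, huA], fun x => ?_⟩
    · obtain ⟨x, rfl⟩ := residue_surjective x
      exact (DFunLike.congr_fun hθ _).trans (congrArg (residue T) (DFunLike.congr_fun hsq x))
    · rw [RingHom.comp_assoc, hψ, ← RingHom.comp_assoc, huT, hsq]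
    · show residue T (uT (ψ x)) = θ (residue A₁ x)
      rw [huTr, hψr]
      exact hσ₀ _
    · exact congrArg (ResidueField.map (algebraMap A T)) (huAr x)
  letI : Algebra A₁ T₁ := ψ.toAlgebra
  haveI : IsLocalHom (algebraMap A₁ T₁) := hloc ψ σ hψr
  letI : Algebra A₀ A₁ := ((algebraMap O A₁).comp (algebraMap A₀ O)).toAlgebra
  haveI : IsScalarTower A₀ O A₁ := IsScalarTower.of_algebraMap_eq' rfl
  letI : Algebra C₀ T₁ := ((algebraMap P T₁).comp (algebraMap C₀ P)).toAlgebra
  haveI : IsScalarTower C₀ P T₁ := IsScalarTower.of_algebraMap_eq' rfl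
  letI : Algebra A₀ T₁ := ((algebraMap C₀ T₁).comp (algebraMap A₀ C₀)).toAlgebra
  haveI : IsScalarTower A₀ C₀ T₁ := IsScalarTower.of_algebraMap_eq' rfl
  haveI : IsScalarTower A₀ A₁ T₁ := IsScalarTower.of_algebraMap_eq fun a => by
    show algebraMap P T₁ (algebraMap C₀ P (algebraMap A₀ C₀ a)) = ψ (algebraMap O A₁ (algebraMap A₀ O a))
    rw [← RingHom.comp_apply ψ, hψ]
    exact congrArg (algebraMap P T₁) (Localization.localRingHom_to_map p q (algebraMap A₀ C₀) hpq a).symm
  haveI : Algebra.WeaklyEtale A₀ A₁ := by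
    haveI := Groth.L20.weaklyEtale_isLocalization p.primeCompl O
    haveI : Algebra.WeaklyEtale O A₁ :=
      Groth.L27.IndEtale.weaklyEtale _ _ (L05.Henselization.isIndEtale_of_isStrictHenselization O A₁)
    exact Algebra.WeaklyEtale.trans A₀ O A₁
  haveI : Algebra.WeaklyEtale C₀ T₁ := by
    haveI := Groth.L20.weaklyEtale_isLocalization q.primeCompl P
    haveI : Algebra.WeaklyEtale P T₁ :=
      Groth.L27.IndEtale.weaklyEtale _ _ (L05.Henselization.isIndEtale_of_isStrictHenselization P T₁)
    exact Algebra.WeaklyEtale.trans C₀ P T₁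
  haveI : Module.Flat A₀ T₁ := Module.Flat.trans A₀ C₀ T₁
  haveI : Module.Flat A₁ T₁ :=
    Groth.L20.flat_of_flat_of_flat_lmul (R := A₀) (T := A₁) (M := T₁) (Algebra.WeaklyEtale.flat_lmul' A₀ A₁)
  letI : Algebra A₁ K := ((algebraMap A K).comp uA).toAlgebra
  have huA₀ : ∀ a, uA (algebraMap A₀ A₁ a) = algebraMap A₀ A a := fun a =>
    (DFunLike.congr_fun huA _).trans (hfA a)
  haveI : IsScalarTower A₀ A₁ K := IsScalarTower.of_algebraMap_eq fun a => by
    show _ = algebraMap A K (uA (algebraMap A₀ A₁ a))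
    rw [huA₀, ← IsScalarTower.algebraMap_apply]
  haveI : ConnectedSpace (PrimeSpectrum (K ⊗[A₁] T₁)) := by
    refine L05.Henselization.FibreConnected.connectedSpace_tensor A₁ T₁ (fun κ _ _ => ?_)
      (fun N _ _ _ _ _ => isLocalRing_tensor_integral A₁ T₁ N) K
    letI : Algebra A₀ κ := ((algebraMap A₁ κ).comp (algebraMap A₀ A₁)).toAlgebra
    haveI : IsScalarTower A₀ A₁ κ := IsScalarTower.of_algebraMap_eq' rfl
    exact isReduced_tensor_strict A₀ C₀ A₁ T₁ κ (hred κ)
  letI : Algebra A₁ A := uA.toAlgebra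
  letI : Algebra A₁ T := ((algebraMap A T).comp uA).toAlgebra
  haveI : IsScalarTower A₁ A T := IsScalarTower.of_algebraMap_eq' rfl
  haveI : IsScalarTower A₁ A K := IsScalarTower.of_algebraMap_eq' rfl
  haveI : IsScalarTower A₀ A₁ A := IsScalarTower.of_algebraMap_eq fun a => (huA₀ a).symm
  let μ₂ : K ⊗[A₁] T₁ →+* T ⊗[A] K := (Algebra.TensorProduct.lift (R := A₁) (S := A₁)
    ((Algebra.TensorProduct.includeRight : K →ₐ[A] T ⊗[A] K).restrictScalars A₁)
    ((Algebra.TensorProduct.includeLeft : T →ₐ[A₁] T ⊗[A] K).comp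
      { uT with commutes' := DFunLike.congr_fun hcompat })
    (fun _ _ => Commute.all _ _)).toRingHom
  let μ₁ : C₀ ⊗[A₀] K →+* K ⊗[A₁] T₁ := (Algebra.TensorProduct.lift (R := A₀) (S := A₀)
    (((Algebra.TensorProduct.includeRight : T₁ →ₐ[A₁] K ⊗[A₁] T₁).restrictScalars A₀).comp
      (IsScalarTower.toAlgHom A₀ C₀ T₁))
    (Algebra.TensorProduct.includeLeft : K →ₐ[A₀] K ⊗[A₁] T₁)
    (fun _ _ => Commute.all _ _)).toRingHom
  have hμ' : μ = μ₂.comp μ₁ := by
    refine RingHom.ext fun z => ?_
    induction z using TensorProduct.induction_on with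
    | zero => rw [map_zero, map_zero]
    | add z w hz hw => rw [map_add, map_add, hz, hw]
    | tmul c k =>
      rw [hμ]
      have : uT (algebraMap C₀ T₁ c) = algebraMap C₀ T c :=
        (DFunLike.congr_fun huT _).trans (hfT c)
      simp [μ₁, μ₂, this]
  rcases idem_of_connectedSpace (he₀.map μ₁) with h | h
  · exact Or.inl (by rw [hμ', RingHom.comp_apply, h, map_zero])
  · exact Or.inr (by rw [hμ', RingHom.comp_apply, h, map_one])

end Models

end Groth.L27.Acyclic0
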