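import Groth.Agent.L27.Acyclic0.Converse
import Mathlib.AlgebraicGeometry.Morphisms.UniversallyOpen
import Mathlib.AlgebraicGeometry.Morphisms.WeaklyEtale

/-! # Strictly local schemes of universally locally 0-acyclic morphisms are universally submersive -/

universe u

open CategoryTheory CategoryTheory.Limits AlgebraicGeometry Opposite IsLocalRing TensorProduct

set_option autoImplicit false
set_option maxSynthPendingDepth 3
set_option backward.isDefEq.respectTransparency.types false
set_option linter.style.haveILetI false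

noncomputable section

namespace Groth.L27.Acyclic0

open Groth.L27.BigSets (ShConnected)

/-- Connected geometric fibres make a morphism surjective. -/
theorem surjective_of_connected {X S : Scheme.{u}} (f : X ⟶ S)
    (hc : ∀ (Ω : Type u) [Field Ω] [IsAlgClosed Ω] (s : Spec (CommRingCat.of Ω) ⟶ S),
      ConnectedSpace ↥(pullback f s)) : Surjective f := by
  refine ⟨fun y => ?_⟩
  obtain ⟨Ω, _, _, η, hη⟩ := EtSite.CF.exists_algClosed_point y
  haveI := hc Ω η
  obtain ⟨z⟩ : Nonempty ↥(pullback f η) := inferInstance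
  refine ⟨(pullback.fst f η).base z, ?_⟩
  rw [← Scheme.Hom.comp_apply, pullback.condition, Scheme.Hom.comp_apply]
  exact (congrArg η.base (Subsingleton.elim (α := Spec (CommRingCat.of Ω)) _ _)).trans hη

/-- Generalizations lift along morphisms with connected geometric fibres on strictly local schemes. -/
theorem exists_specializes_of_shConnected {X Y : Scheme.{u}} (g : X ⟶ Y) (hg : ShConnected g) (x : X) (t : Y)
    (ht : t ⤳ g.base x) : ∃ x', x' ⤳ x ∧ g.base x' = t := by
  let O := Y.presheaf.stalk (g.base x)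
  let O' := X.presheaf.stalk x
  obtain ⟨RS, _, _, _, _, hRS⟩ := L05.Henselization.exists_isStrictHenselization O
  obtain ⟨RX, _, _, _, _, hRX⟩ := L05.Henselization.exists_isStrictHenselization O'
  haveI := hRX.henselian
  haveI : IsSepClosed (ResidueField RX) := hRX.isSepClosure.sep_closed
  haveI : Algebra.IsSeparable (ResidueField O) (ResidueField RS) := hRS.isSepClosure.separable
  let φ : O →+* RX := (algebraMap O' RX).comp (g.stalkMap x).hom
  haveI : IsLocalHom φ := RingHom.isLocalHom_comp _ _
  letI : Algebra (ResidueField O) (ResidueField RX) := (ResidueField.map φ).toAlgebra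
  let τ : ResidueField RS →ₐ[ResidueField O] ResidueField RX := IsSepClosed.lift
  obtain ⟨ψ, ⟨hψ, hψres⟩, -⟩ := hRS.universal RX φ τ.toRingHom τ.comp_algebraMap
  haveI : IsLocalHom ψ := ⟨fun s hs => by
    by_contra h
    have h0 : residue RS s = 0 := (residue_eq_zero_iff s).mpr ((mem_maximalIdeal s).mpr h)
    have h2 := hψres s
    rw [h0, map_zero, residue_eq_zero_iff] at h2
    exact (mem_maximalIdeal _).mp h2 hs⟩
  obtain ⟨p, hp⟩ : t ∈ Set.range (Y.fromSpecStalk (g.base x)) := by
    rw [Scheme.range_fromSpecStalk]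
    exact ht
  haveI := L05.Henselization.flat_of_isStrictHenselization O RS
  haveI : Module.FaithfullyFlat O RS := L05.Henselization.faithfullyFlat_of_flat_local
  obtain ⟨q, hq⟩ := PrimeSpectrum.comap_surjective_of_faithfullyFlat (A := O) (B := RS) p
  haveI : Surjective (Spec.map (CommRingCat.ofHom ψ)) :=
    surjective_of_connected _ (fun Ω _ _ η => hg x RS RX ψ hψ Ω η)
  obtain ⟨z, hz⟩ := (Spec.map (CommRingCat.ofHom ψ)).surjective q
  let j := Spec.map (CommRingCat.ofHom (algebraMap O' RX)) ≫ X.fromSpecStalk x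
  have hj : j (closedPoint RX) = x := by
    rw [Scheme.Hom.comp_apply,
      show (Spec.map (CommRingCat.ofHom (algebraMap O' RX))) (closedPoint RX) = closedPoint O' from
        IsLocalRing.comap_closedPoint (algebraMap O' RX)]
    exact Scheme.fromSpecStalk_closedPoint
  refine ⟨j z, ?_, ?_⟩
  · conv_rhs => rw [← hj]
    exact (IsLocalRing.specializes_closedPoint z).map j.continuous
  · have e : j ≫ g = Spec.map (CommRingCat.ofHom ψ) ≫ Spec.map (CommRingCat.ofHom (algebraMap O RS)) ≫
        Y.fromSpecStalk (g.base x) := by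
      rw [Category.assoc, ← Scheme.SpecMap_stalkMap_fromSpecStalk, ← Spec.map_comp_assoc, ← Spec.map_comp_assoc]
      refine congrArg (fun r => Spec.map r ≫ _) (CommRingCat.hom_ext ?_)
      exact hψ.symm
    rw [← Scheme.Hom.comp_apply, e, Scheme.Hom.comp_apply, Scheme.Hom.comp_apply, hz]
    exact (congrArg (Y.fromSpecStalk (g.base x)) hq).trans hp

/-- A quasi-compact affine surjection whose base changes are generalizing is universally submersive. -/
theorem univSubmersive_of_affine_generalizing {X Y : Scheme.{u}} (f : X ⟶ Y) [IsAffineHom f] [Surjective f]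
    (hgen : ∀ {T : Scheme.{u}} (u : T ⟶ Y), GeneralizingMap (pullback.snd f u)) :
    SGA1.UnivSubmersive f := by
  intro X' Y' i₁ i₂ f' sq
  haveI : IsAffineHom f' := MorphismProperty.of_isPullback (P := @IsAffineHom) sq.flip ‹IsAffineHom f›
  haveI : Surjective f' := MorphismProperty.of_isPullback (P := @Surjective) sq.flip ‹Surjective f›
  have hgen' : GeneralizingMap f' := by
    have e : f' = sq.flip.isoPullback.hom ≫ pullback.snd f i₂ := sq.flip.isoPullback_hom_snd.symm
    rw [e, Scheme.Hom.comp_base, TopCat.coe_comp]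
    exact (sq.flip.isoPullback.hom.homeomorph.isOpenEmbedding.generalizingMap).comp (hgen i₂)
  show Topology.IsQuotientMap f'.base
  rw [Topology.isQuotientMap_iff]
  refine ⟨.of_isOpen_preimage_iff_isOpen fun s => ⟨fun hs => ?_, fun hs => hs.preimage f'.continuous⟩, f'.surjective⟩
  refine isOpen_iff_forall_mem_open.2 fun y hy => ?_
  obtain ⟨U, hU, hyU, -⟩ := exists_isAffineOpen_mem_and_subset (X := Y') (x := y) (U := ⊤) trivial
  haveI : IsAffine U := hU
  haveI : IsAffine (f' ⁻¹ᵁ U) := hU.preimage f'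
  let r := f' ∣_ U
  have hrgen : GeneralizingMap r.base := by
    intro a b hb
    have h1 : (U.ι b) ⤳ f' ((f' ⁻¹ᵁ U).ι a) := by
      rw [← Scheme.Hom.comp_apply, ← morphismRestrict_ι, Scheme.Hom.comp_apply]
      exact hb.map U.ι.continuous
    obtain ⟨a', ha', e⟩ := hgen' h1
    have hmem : a' ∈ f' ⁻¹ᵁ U := by
      show f' a' ∈ U
      rw [e]
      exact b.2
    refine ⟨⟨a', hmem⟩, ?_, ?_⟩
    · exact ((f' ⁻¹ᵁ U).ι.isOpenEmbedding.isInducing.specializes_iff).1 ha'
    · refine U.ι.isOpenEmbedding.injective ?_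
      rw [← Scheme.Hom.comp_apply, morphismRestrict_ι, Scheme.Hom.comp_apply]
      exact e
  let φ := r.appTop
  let eX := (f' ⁻¹ᵁ U).toScheme.isoSpec
  let eU := U.toScheme.isoSpec
  have hr : r = eX.hom ≫ Spec.map φ ≫ eU.inv := by
    rw [← Category.assoc, Iso.eq_comp_inv]
    exact (Scheme.isoSpec_hom_naturality r).symm
  have hφ : Topology.IsQuotientMap (Spec.map φ).base := by
    have hφe : Spec.map φ = eX.inv ≫ r ≫ eU.hom := by rw [hr]; simp
    refine PrimeSpectrum.isQuotientMap_of_generalizingMap (f := φ.hom) ?_ ?_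
    · show Function.Surjective (Spec.map φ).base
      haveI : Surjective r := MorphismProperty.of_isPullback (P := @Surjective)
        (isPullback_morphismRestrict f' U).flip ‹Surjective f'›
      rw [hφe]
      exact (inferInstance : Surjective (eX.inv ≫ r ≫ eU.hom)).surj
    · show GeneralizingMap (Spec.map φ).base
      rw [hφe, Scheme.Hom.comp_base, Scheme.Hom.comp_base, TopCat.coe_comp, TopCat.coe_comp]
      exact (eX.inv.homeomorph.isOpenEmbedding.generalizingMap).comp
        (hrgen.comp eU.hom.homeomorph.isOpenEmbedding.generalizingMap)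
  have hrq : Topology.IsQuotientMap r.base := by
    rw [hr, Scheme.Hom.comp_base, Scheme.Hom.comp_base, TopCat.coe_comp, TopCat.coe_comp]
    exact (eU.inv.homeomorph.isQuotientMap.comp hφ).comp eX.hom.homeomorph.isQuotientMap
  refine ⟨U.ι '' (U.ι ⁻¹' s), Set.image_preimage_subset _ _, ?_, ⟨⟨y, hyU⟩, hy, rfl⟩⟩
  refine U.ι.isOpenEmbedding.isOpenMap _ (hrq.isOpen_preimage.1 ?_)
  rw [← Set.preimage_comp, ← TopCat.coe_comp, ← Scheme.Hom.comp_base, morphismRestrict_ι, Scheme.Hom.comp_base,
    TopCat.coe_comp, Set.preimage_comp]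
  exact hs.preimage (f' ⁻¹ᵁ U).ι.continuous

/-- Strictly local schemes of universally locally 0-acyclic morphisms are universally submersive. -/
theorem univSubmersive_of_isULocZeroAcyclic {X Y : Scheme.{u}} (g : X ⟶ Y) (hg : EtAcyc.IsULocZeroAcyclic g)
    (RS RX : Type u) [CommRing RS] [CommRing RX] (ψ : RS →+* RX)
    (s : Spec (CommRingCat.of RS) ⟶ Y) [Flat (pullback.diagonal s)]
    (j : Spec (CommRingCat.of RX) ⟶ X) [Flat j]
    (hcomm : Spec.map (CommRingCat.ofHom ψ) ≫ s = j ≫ g)
    (hsurj : Surjective (Spec.map (CommRingCat.ofHom ψ))) :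
    SGA1.UnivSubmersive (Spec.map (CommRingCat.ofHom ψ)) := by
  haveI := hsurj
  refine univSubmersive_of_affine_generalizing _ fun {T} w => ?_
  let f := Spec.map (CommRingCat.ofHom ψ)
  let m₁ : pullback f w ⟶ pullback (f ≫ s) (w ≫ s) :=
    pullback.map f w (f ≫ s) (w ≫ s) (𝟙 _) (𝟙 _) s (Category.id_comp _).symm (Category.id_comp _).symm
  haveI : Flat m₁ := MorphismProperty.of_isPullback (P := @Flat) (pullback_map_diagonal_isPullback f w s)
    ‹Flat (pullback.diagonal s)›
  let m₂ : pullback (f ≫ s) (w ≫ s) ⟶ pullback g (w ≫ s) :=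
    pullback.map (f ≫ s) (w ≫ s) g (w ≫ s) j (𝟙 _) (𝟙 _) ((Category.comp_id _).trans hcomm)
      ((Category.comp_id _).trans (Category.id_comp _).symm)
  haveI : Flat m₂ := by
    have : IsPullback m₂ (pullback.fst (f ≫ s) (w ≫ s)) (pullback.fst g (w ≫ s)) j := by
      refine IsPullback.of_right ?_ (pullback.lift_fst _ _ _) (IsPullback.of_hasPullback g (w ≫ s)).flip
      rw [pullback.lift_snd, Category.comp_id, ← hcomm]
      exact (IsPullback.of_hasPullback (f ≫ s) (w ≫ s)).flip
    exact MorphismProperty.of_isPullback (P := @Flat) this.flip ‹Flat j›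
  let m := m₁ ≫ m₂
  have hm : m ≫ pullback.snd g (w ≫ s) = pullback.snd f w := by
    simp only [m, m₁, m₂, Category.assoc, pullback.lift_snd, Category.comp_id]
  have hc : ShConnected (pullback.snd g (w ≫ s)) := shConnected_of_isULocZeroAcyclic _ fun X₁ Y₁ g₁ b' b h =>
    hg g₁ _ _ (h.paste_horiz (IsPullback.of_hasPullback g (w ≫ s)))
  intro p t ht
  rw [← hm, Scheme.Hom.comp_apply] at ht
  obtain ⟨x', hx', hxt⟩ := exists_specializes_of_shConnected _ hc (m p) t ht
  obtain ⟨p', hp', hpx⟩ := Flat.generalizingMap m hx'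
  refine ⟨p', hp', ?_⟩
  rw [← hm, Scheme.Hom.comp_apply, hpx, hxt]

end Groth.L27.Acyclic0
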